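import Cfsg.Agent.Lib.DerivedTwoLength34.Defs
import Cfsg.Agent.Lib.ExpTwoLength71.Lower
import Cfsg.Agent.Lib.HallHigmanFermat.Exponent

/-!
# Assembling the bound of the `2`-length by the derived length

A normal elementary abelian `2`-subgroup on which chains through the derived series of a Sylow
`2`-subgroup vanish lowers the length (`pLengthLE_of_layer`), and the bound for modules gives the
bound for groups (`pLengthLE_succ`).
-/

set_option autoImplicit false
set_option linter.style.haveILetI false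

namespace Cfsg.Agent.Lib.DerivedTwoLength34

open Subgroup Cfsg
open Cfsg.Agent.Lib.PSolvable Cfsg.Agent.Lib.HallHigmanB Cfsg.Agent.Lib.HallHigmanFermat
open scoped commutatorElement IsMulCommutative TensorProduct

universe u

/-- The chain of `t 0, t 1, ..., t i` on `m`. -/
def chainAct {X M : Type*} [Group X] [CommGroup M] (α : X →* MulAut M) (t : ℕ → X) (m : M) : ℕ → M
  | 0 => α (t 0) m / m
  | i + 1 => α (t (i + 1)) (chainAct α t m i) / chainAct α t m i

/-- The series of the module under the derived series of `T`. -/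
def layerSer {X M : Type*} [Group X] [CommGroup M] (α : X →* MulAut M) (T : Subgroup X) :
    ℕ → Subgroup M
  | 0 => ⊤
  | i + 1 => closure {z | ∃ x ∈ dser T i, ∃ m ∈ layerSer α T i, α x m / m = z}

/-- The conditions on the action that descend to the irreducible factors. -/
structure Acts {X M : Type*} [Group X] [CommGroup M] (α : X →* MulAut M) (n : ℕ) : Prop where
  top : ∀ T : Sylow 2 X, ∀ x ∈ dser (T : Subgroup X) (n + 1), α x = 1
  chain : ∀ (T : Sylow 2 X) (t : ℕ → X), (∀ i ≤ n, t i ∈ dser (T : Subgroup X) i) →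
    ∀ m, chainAct α t m n = 1

section

variable {X M : Type*} [Group X] [CommGroup M] (α : X →* MulAut M)

theorem chainAct_map {X' M' : Type*} [Group X'] [CommGroup M'] (α' : X' →* MulAut M') (g : M →* M')
    (s : ℕ → X) (t : ℕ → X') (h : ∀ i m, g (α (s i) m) = α' (t i) (g m)) (m : M) :
    ∀ i, g (chainAct α s m i) = chainAct α' t (g m) i
  | 0 => by rw [chainAct, chainAct, map_div, h]
  | i + 1 => by rw [chainAct, chainAct, map_div, h, chainAct_map α' g s t h m i]

theorem chainAct_congr {s t : ℕ → X} (m : M) : ∀ i, (∀ j ≤ i, s j = t j) →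
    chainAct α s m i = chainAct α t m i
  | 0, h => by rw [chainAct, chainAct, h 0 le_rfl]
  | i + 1, h => by
    rw [chainAct, chainAct, chainAct_congr m i (fun j hj => h j (by omega)), h (i + 1) le_rfl]

/-- The map `m ↦ x m / m`. -/
def diffHom (x : X) : M →* M where
  toFun m := α x m / m
  map_one' := by simp
  map_mul' a b := by rw [map_mul, mul_div_mul_comm]

theorem diff_mem_layerSer {T : Subgroup X} {i : ℕ} {x : X} (hx : x ∈ dser T i) {m : M}
    (hm : m ∈ layerSer α T i) : α x m / m ∈ layerSer α T (i + 1) :=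
  subset_closure ⟨x, hx, m, hm, rfl⟩

theorem layerSer_succ_le (T : Subgroup X) : ∀ i, layerSer α T (i + 1) ≤ layerSer α T i
  | 0 => le_top
  | i + 1 => (closure_le _).2 (by
      rintro _ ⟨x, hx, m, hm, rfl⟩
      exact diff_mem_layerSer α (dser_antitone T i hx) (layerSer_succ_le T i hm))

theorem map_mem_layerSer {T : Subgroup X} {i : ℕ} {x : X} (hx : x ∈ dser T i) {m : M}
    (hm : m ∈ layerSer α T i) : α x m ∈ layerSer α T i := by
  have h := mul_mem (layerSer_succ_le α T i (diff_mem_layerSer α hx hm)) hm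
  rwa [div_mul_cancel] at h

theorem layerSer_le_closure_chain (T : Subgroup X) (i : ℕ) :
    layerSer α T (i + 1) ≤
      closure {z | ∃ t : ℕ → X, (∀ j ≤ i, t j ∈ dser T j) ∧ ∃ m, chainAct α t m i = z} := by
  induction i with
  | zero =>
    refine (closure_le _).2 ?_
    rintro _ ⟨x, hx, m, -, rfl⟩
    exact subset_closure ⟨fun _ => x, fun j hj => by rwa [Nat.le_zero.1 hj], m, rfl⟩
  | succ i ih =>
    refine (closure_le _).2 ?_
    rintro _ ⟨x, hx, m, hm, rfl⟩
    have h1 : closure {z | ∃ t : ℕ → X, (∀ j ≤ i, t j ∈ dser T j) ∧ ∃ m, chainAct α t m i = z} ≤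
        (closure {z | ∃ t : ℕ → X, (∀ j ≤ i + 1, t j ∈ dser T j) ∧
          ∃ m, chainAct α t m (i + 1) = z}).comap (diffHom α x) := by
      refine (closure_le _).2 ?_
      rintro _ ⟨t, ht, m', rfl⟩
      refine subset_closure ⟨Function.update t (i + 1) x, fun j hj => ?_, m', ?_⟩
      · rcases eq_or_ne j (i + 1) with rfl | hne
        · rwa [Function.update_self]
        · rw [Function.update_of_ne hne]
          exact ht j (by omega)
      · show α (Function.update t (i + 1) x (i + 1)) _ / _ = α x _ / _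
        rw [Function.update_self, chainAct_congr α m' i fun j hj =>
          Function.update_of_ne (by omega) _ t]
    exact h1 (ih hm)

theorem layerSer_eq_bot {T : Subgroup X} {n : ℕ}
    (h : ∀ t : ℕ → X, (∀ i ≤ n, t i ∈ dser T i) → ∀ m, chainAct α t m n = 1) :
    layerSer α T (n + 1) = ⊥ := by
  refine le_bot_iff.1 ((layerSer_le_closure_chain α T n).trans ((closure_le _).2 ?_))
  rintro _ ⟨t, ht, m, rfl⟩
  exact mem_bot.2 (h t ht m)

/-- An element of the semidirect product with both components in the `i`-th series. -/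
def pairSer (T : Subgroup X) (i : ℕ) : Subgroup (SemidirectProduct M X α) where
  carrier := {g | g.left ∈ layerSer α T i ∧ g.right ∈ dser T i}
  one_mem' := ⟨one_mem _, one_mem _⟩
  mul_mem' := fun {a b} ha hb => ⟨by
    rw [SemidirectProduct.mul_left]
    exact mul_mem ha.1 (map_mem_layerSer α ha.2 hb.1), by
    rw [SemidirectProduct.mul_right]
    exact mul_mem ha.2 hb.2⟩
  inv_mem' := fun {a} ha => ⟨by
    rw [SemidirectProduct.inv_left]
    exact map_mem_layerSer α (inv_mem ha.2) (inv_mem ha.1), by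
    rw [SemidirectProduct.inv_right]
    exact inv_mem ha.2⟩

theorem commutator_pairSer_le (T : Subgroup X) (i : ℕ) :
    ⁅pairSer α T i, pairSer α T i⁆ ≤ pairSer α T (i + 1) := by
  refine commutator_le.2 fun a ha b hb => ⟨?_, ?_⟩
  · have hy : a.right * b.right * a.right⁻¹ ∈ dser T i :=
      mul_mem (mul_mem ha.2 hb.2) (inv_mem ha.2)
    have hc : a.right * b.right * a.right⁻¹ * b.right⁻¹ ∈ dser T i :=
      mul_mem hy (inv_mem hb.2)
    have h := mul_mem (mul_mem (diff_mem_layerSer α ha.2 hb.1)
      (inv_mem (diff_mem_layerSer α hy ha.1))) (inv_mem (diff_mem_layerSer α hc hb.1))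
    rw [commutatorElement_def]
    simp only [SemidirectProduct.mul_left, SemidirectProduct.mul_right,
      SemidirectProduct.inv_left, SemidirectProduct.inv_right, map_mul, map_inv, MulAut.mul_apply]
    refine (Eq.subst (motive := fun z => z ∈ layerSer α T (i + 1)) ?_ h)
    simp only [map_mul, map_inv, MulAut.mul_apply]
    have key : ∀ x y p q r : M, p / y * (q / x)⁻¹ * (r / y)⁻¹ = x * p * q⁻¹ * r⁻¹ := by
      intro x y p q r
      rw [inv_div, inv_div, div_mul_div_comm, div_mul_div_comm, mul_comm _ y, mul_assoc y,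
        mul_div_mul_left_eq_div, div_eq_mul_inv, mul_inv, mul_comm p x, ← mul_assoc]
    exact key _ _ _ _ _
  · rw [show (⁅a, b⁆).right = ⁅a.right, b.right⁆ from
      map_commutatorElement (SemidirectProduct.rightHom (φ := α)) a b]
    exact commutator_mem_commutator ha.2 hb.2

end

/-- Sylow subgroups of `M ⋊ X` have derived length at most `n + 1`. -/
theorem dser_semidirect_eq_bot {X M : Type*} [Group X] [Finite X] [CommGroup M] [Finite M]
    (α : X →* MulAut M) (hα : Function.Injective α) {n : ℕ} (h : Acts α n)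
    [Finite (SemidirectProduct M X α)] (P : Sylow 2 (SemidirectProduct M X α)) :
    dser (P : Subgroup (SemidirectProduct M X α)) (n + 1) = ⊥ := by
  haveI : Fact (Nat.Prime 2) := ⟨Nat.prime_two⟩
  set T := P.mapSurjective (SemidirectProduct.rightHom_surjective (φ := α)) with hT
  have key : ∀ i, dser (P : Subgroup (SemidirectProduct M X α)) i ≤
      pairSer α (T : Subgroup X) i := by
    intro i
    induction i with
    | zero =>
      intro g hg
      refine ⟨mem_top _, ?_⟩
      show g.right ∈ (T : Subgroup X)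
      rw [hT, Sylow.coe_mapSurjective]
      exact mem_map_of_mem SemidirectProduct.rightHom hg
    | succ i ih => exact (commutator_mono ih ih).trans (commutator_pairSer_le α _ i)
  rw [eq_bot_iff]
  intro g hg
  obtain ⟨h1, h2⟩ := key (n + 1) hg
  rw [layerSer_eq_bot α (h.chain T), mem_bot] at h1
  exact mem_bot.2 (SemidirectProduct.ext h1 (hα ((h.top T _ h2).trans (map_one α).symm)))

/-- The irreducible faithful case. -/
theorem pLengthLE_of_acts {n : ℕ} (ih : LengthBound.{u} (n + 1)) {M : Type u} [CommGroup M]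
    [Finite M] (hM2 : ∀ m : M, m ^ 2 = 1) (X : Subgroup (MulAut M)) [Group.IsSolvable X]
    (hO : pCore 2 X = ⊥) (hX : Acts X.subtype n) : PLengthLE 2 n X := by
  haveI : Fact (Nat.Prime 2) := ⟨Nat.prime_two⟩
  set G' := SemidirectProduct M X X.subtype
  haveI : Finite G' := Finite.of_equiv _ SemidirectProduct.equivProd.symm
  haveI : Group.IsSolvable G' := Group.isSolvable_of_ker_le_range
    (SemidirectProduct.inl : M →* G') (SemidirectProduct.rightHom : G' →* X)
    SemidirectProduct.range_inl_eq_ker_rightHom.ge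
  have hl : PLengthLE 2 (n + 1) G' :=
    ih G' (dser_semidirect_eq_bot X.subtype X.subtype_injective hX)
  set r : G' →* X := SemidirectProduct.rightHom with hr
  have hrs : Function.Surjective r := SemidirectProduct.rightHom_surjective
  have hk2 : ∀ z ∈ r.ker, z ^ 2 = 1 := by
    intro z hz
    rw [hr, ← SemidirectProduct.range_inl_eq_ker_rightHom] at hz
    obtain ⟨m, rfl⟩ := hz
    rw [← map_pow, hM2, map_one]
  have hN : pPrimeCore 2 G' = ⊥ := by
    haveI : (pPrimeCore 2 G').Normal := @normal_of_characteristic _ _ _ pPrimeCore_characteristic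
    have hmeet : ∀ z ∈ pPrimeCore 2 G', z ∈ r.ker → z = 1 := fun z hz hzk => by
      rw [← orderOf_eq_one_iff]
      exact Nat.eq_one_of_dvd_coprimes (pPrimeCore_coprime (p := 2) (G := G'))
        (Subgroup.orderOf_dvd_natCard _ hz) (orderOf_dvd_of_pow_eq_one (hk2 z hzk))
    rw [eq_bot_iff]
    intro x hx
    refine mem_bot.2 (hmeet x hx (MonoidHom.mem_ker.2 ?_))
    apply Subtype.ext
    refine MulEquiv.ext fun m => ?_
    have h1 : x * SemidirectProduct.inl m * x⁻¹ * (SemidirectProduct.inl m : G')⁻¹ = 1 := by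
      refine hmeet _ ?_ ?_
      · rw [show x * SemidirectProduct.inl m * x⁻¹ * (SemidirectProduct.inl m : G')⁻¹ =
          x * (SemidirectProduct.inl m * x⁻¹ * (SemidirectProduct.inl m : G')⁻¹) by group]
        exact mul_mem hx (Subgroup.Normal.conj_mem inferInstance _ (inv_mem hx) _)
      · have hrm : r (SemidirectProduct.inl m) = 1 := SemidirectProduct.rightHom_inl m
        rw [MonoidHom.mem_ker, map_mul, map_mul, map_mul, map_inv, map_inv, hrm]
        group
    have h1' := mul_inv_eq_iff_eq_mul.1 (mul_inv_eq_one.1 h1)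
    have h2 := congrArg SemidirectProduct.left h1'
    rw [SemidirectProduct.mul_left, SemidirectProduct.mul_left, SemidirectProduct.left_inl,
      SemidirectProduct.right_inl, map_one, MulAut.one_apply, mul_comm m] at h2
    exact mul_left_cancel h2
  have hker : r.ker = (upperPSeries 2 G' 2).1 := by
    rw [OddMax.Sec10.upperPSeries_two]
    haveI : (pPrimePCore 2 G').Normal := pPrimePCore_normal
    refine le_antisymm (OddMax.Sec10.le_pPrimePCore_of_pow_mem fun z hz => ⟨1, ?_⟩) ?_
    · rw [pow_one, hk2 z hz]; exact one_mem _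
    · haveI : ((pPrimePCore 2 G').map r).Normal := Normal.map inferInstance r hrs
      have h2 : IsPGroup 2 ((pPrimePCore 2 G').map r) := by
        rintro ⟨_, z, hz, rfl⟩
        obtain ⟨k, hk⟩ := OddMax.Sec10.exists_pow_mem_pPrimeCore hz
        rw [hN, mem_bot] at hk
        exact ⟨k, Subtype.ext (by rw [SubmonoidClass.coe_pow, ← map_pow, hk, map_one]; rfl)⟩
      exact (Subgroup.map_eq_bot_iff _).1 (le_bot_iff.1 ((le_pCore h2).trans hO.le))
  have hc := comap_upperPSeries (p := 2) hrs (by norm_num : Even 2) hker (2 * n + 1)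
  unfold PLengthLE at hl ⊢
  rw [show 2 * n + 1 + 2 = 2 * (n + 1) + 1 by omega, hl] at hc
  exact comap_injective hrs (hc.trans (comap_top r).symm)

set_option maxHeartbeats 800000 in
/-- **The kernel of small colength.** -/
theorem exists_kernel {n : ℕ} (ih : LengthBound.{u} (n + 1)) :
    ∀ (c : ℕ) {Y : Type u} [Group Y] [Finite Y] [Group.IsSolvable Y] (M : Type u) [CommGroup M]
      [Finite M] (α : Y →* MulAut M), Nat.card M ≤ c → (∀ m : M, m ^ 2 = 1) → Acts α n →
      ∃ (K : Subgroup Y) (_ : K.Normal),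
        PLengthLE 2 n (Y ⧸ K) ∧ ∀ x ∈ K, Odd (orderOf x) → α x = 1 := by
  haveI : Fact (Nat.Prime 2) := ⟨Nat.prime_two⟩
  intro c
  induction c with
  | zero =>
    intro Y _ _ _ M _ _ α hn
    exact absurd hn (Nat.not_le.2 Nat.card_pos)
  | succ c ihc =>
    intro Y _ _ _ M _ _ α hn hM2 hA
    by_cases htriv : ∀ m : M, m = 1
    · refine ⟨⊤, inferInstance, pLengthLE_zero_of_coprime ?_ |>
        ExpTwoLength71.pLengthLE_mono (Nat.zero_le _), ?_⟩
      · rw [← index_eq_card, index_top]
        exact Nat.coprime_one_left 2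
      · intro x _ _
        exact MulEquiv.ext fun m => (htriv _).trans (htriv _).symm
    push Not at htriv
    obtain ⟨m₀, hm₀⟩ := htriv
    by_cases hred : ∃ N : Subgroup M, N ≠ ⊥ ∧ N ≠ ⊤ ∧ ∀ y, ∀ m ∈ N, α y m ∈ N
    · obtain ⟨N, hNb, hNt, hNi⟩ := hred
      obtain ⟨α₁, α₂, h₁, h₂⟩ := ExpTwoLength71.exists_restrict α N hNi
      have hmul := card_eq_card_quotient_mul_card_subgroup N
      have hN2 : 2 ≤ Nat.card N := (one_lt_card_iff_ne_bot N).2 hNb
      have hQ2 : 2 ≤ Nat.card (M ⧸ N) := by
        rw [← index_eq_card]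
        exact one_lt_index_of_ne_top hNt
      have hcN : Nat.card N ≤ c := by nlinarith
      have hcQ : Nat.card (M ⧸ N) ≤ c := by nlinarith
      obtain ⟨K₁, _, hK₁, hK₁'⟩ := ihc N α₁ hcN (fun m => Subtype.ext (hM2 m))
        ⟨fun T x hx => MulEquiv.ext fun m => Subtype.ext (by
          rw [h₁, hA.top T x hx]; rfl),
        fun T t ht m => Subtype.ext (by
          rw [OneMemClass.coe_one, ← hA.chain T t ht (m : M)]
          exact chainAct_map α₁ α N.subtype t t (fun i z => h₁ (t i) z) m n)⟩
      obtain ⟨K₂, _, hK₂, hK₂'⟩ := ihc (M ⧸ N) α₂ hcQ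
        (fun x => by
          induction x using QuotientGroup.induction_on with
          | _ m => rw [← QuotientGroup.mk_pow, hM2]; rfl)
        ⟨fun T x hx => MulEquiv.ext fun z => by
          induction z using QuotientGroup.induction_on with
          | _ m => rw [h₂, hA.top T x hx]; rfl,
        fun T t ht z => by
          induction z using QuotientGroup.induction_on with
          | _ m =>
            rw [← QuotientGroup.mk'_apply, ← chainAct_map α α₂ (QuotientGroup.mk' N) t t
              (fun i w => (h₂ (t i) w).symm) m n, hA.chain T t ht m, map_one]⟩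
      refine ⟨K₁ ⊓ K₂, inferInstance, ExpTwoLength71.pLengthLE_quotient_inf hK₁ hK₂,
        fun x hx hxo => ?_⟩
      have hfix : ∀ m ∈ N, α x m = m := fun m hm => by
        rw [← h₁ x ⟨m, hm⟩, hK₁' x hx.1 hxo]
        rfl
      refine MulEquiv.ext fun m => ?_
      rw [MulAut.one_apply]
      have hd : α x m / m ∈ N := by
        rw [← QuotientGroup.eq_iff_div_mem, ← h₂, hK₂' x hx.2 hxo]
        rfl
      have hit : ∀ j : ℕ, α (x ^ j) m = (α x m / m) ^ j * m := by
        intro j
        induction j with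
        | zero => simp
        | succ j ihj =>
          rw [pow_succ', map_mul, MulAut.mul_apply, ihj, map_mul, map_pow (α x), hfix _ hd,
            pow_succ, mul_assoc, div_mul_cancel]
      have hone := hit (orderOf x)
      rw [pow_orderOf_eq_one, map_one, MulAut.one_apply] at hone
      exact div_eq_one.1
        (ExpTwoLength71.odd_pow_eq_one (right_eq_mul.1 hone) (n := 1) (by rw [pow_one, hM2]) hxo)
    push Not at hred
    haveI : Group.IsSolvable α.range := Group.isSolvable_of_surjective α.rangeRestrict_surjective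
    have hO : pCore 2 α.range = ⊥ := by
      set A := pCore 2 α.range
      have hA : IsPGroup 2 A := pCore_isPGroup
      have h2M : 2 ∣ Nat.card M := by
        rw [← orderOf_eq_prime (hM2 m₀) hm₀]
        exact orderOf_dvd_natCard m₀
      obtain ⟨b, hb, hb1⟩ := hA.exists_fixed_point_of_prime_dvd_card_of_fixed_point M h2M (a := 1)
        (fun g => map_one ((g : α.range) : MulAut M))
      let F : Subgroup M :=
        { carrier := {m | ∀ g ∈ A, ((g : α.range) : MulAut M) m = m}
          one_mem' := fun g _ => map_one _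
          mul_mem' := fun {a c} ha hc g hg => by rw [map_mul, ha g hg, hc g hg]
          inv_mem' := fun {a} ha g hg => by rw [map_inv, ha g hg] }
      have hFne : F ≠ ⊥ := fun h => hb1 (mem_bot.1 (h ▸ (fun g hg => hb ⟨g, hg⟩ : b ∈ F))).symm
      have hFtop : F = ⊤ := by
        by_contra hne
        obtain ⟨y, m, hm, hym⟩ := hred F hFne hne
        refine hym fun g hg => ?_
        have h1 := hm _ (Subgroup.Normal.conj_mem inferInstance g hg (α.rangeRestrict y)⁻¹)
        rw [inv_inv, Subgroup.coe_mul, Subgroup.coe_mul, InvMemClass.coe_inv,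
          MonoidHom.coe_rangeRestrict, MulAut.mul_apply, MulAut.mul_apply] at h1
        have h2 := congrArg (α y) h1
        rwa [← MulAut.mul_apply, mul_inv_cancel, MulAut.one_apply] at h2
      rw [eq_bot_iff]
      intro g hg
      refine mem_bot.2 (Subtype.ext (MulEquiv.ext fun m => ?_))
      exact (hFtop ▸ mem_top m : m ∈ F) g hg
    have hs := α.rangeRestrict_surjective
    have hX : PLengthLE 2 n α.range := by
      refine pLengthLE_of_acts ih hM2 α.range hO ⟨fun T' x hx => ?_, fun T' t ht m => ?_⟩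
      · obtain ⟨T, rfl⟩ := Sylow.mapSurjective_surjective hs 2 T'
        rw [Sylow.coe_mapSurjective, ← map_dser] at hx
        obtain ⟨y, hy, rfl⟩ := hx
        exact hA.top T y hy
      · obtain ⟨T, rfl⟩ := Sylow.mapSurjective_surjective hs 2 T'
        simp only [Sylow.coe_mapSurjective, ← map_dser] at ht
        choose s hs' using ht
        let s' : ℕ → Y := fun i => if hi : i ≤ n then s i hi else 1
        have hs'' : ∀ i ≤ n, s' i ∈ dser (T : Subgroup Y) i ∧ α.rangeRestrict (s' i) = t i :=
          fun i hi => by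
            simp only [s', dif_pos hi]
            exact hs' i hi
        rw [chainAct_congr α.range.subtype (t := fun i => α.rangeRestrict (s' i)) m n
          fun i hi => (hs'' i hi).2.symm]
        rw [← hA.chain T s' (fun i hi => (hs'' i hi).1) m]
        exact (chainAct_map α α.range.subtype (MonoidHom.id M) s'
          (fun i => α.rangeRestrict (s' i)) (fun i w => rfl) m n).symm
    exact ⟨α.ker, inferInstance, PLengthBound.pLengthLE_of_surjective
      (f := (QuotientGroup.quotientKerEquivRange α).symm.toMonoidHom)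
      (QuotientGroup.quotientKerEquivRange α).symm.surjective hX, fun x hx _ => hx⟩

/-- The combination, given the length of `G ⧸ Z` and the kernel. -/
theorem pLengthLE_of_quotient_kernel {G : Type u} [Group G] [Finite G] [Group.IsSolvable G] {n : ℕ}
    (hO : pPrimeCore 2 G = ⊥) (Z : Subgroup G) [Z.Normal] (hZ : IsPGroup 2 Z)
    (hQ : PLengthLE 2 (n + 1) (G ⧸ Z)) (K : Subgroup G) [K.Normal] (hK : PLengthLE 2 n (G ⧸ K))
    (hKZ : ∀ x ∈ K, Odd (orderOf x) → ∀ z ∈ Z, Commute x z) : PLengthLE 2 (n + 1) G := by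
  haveI : Fact (Nat.Prime 2) := ⟨Nat.prime_two⟩
  set π := QuotientGroup.mk' Z with hπ
  have hπs : Function.Surjective π := QuotientGroup.mk'_surjective Z
  have hZ0 : (upperPSeries 2 (G ⧸ Z) 0).1.comap π = Z := by
    rw [upperPSeries_zero, MonoidHom.comap_bot, QuotientGroup.ker_mk']
  set P₁ := (upperPSeries 2 (G ⧸ Z) 2).1.comap π with hP₁
  set L := (upperPSeries 2 (G ⧸ Z) 1).1.comap π with hL
  set J := K ⊓ P₁ with hJdef
  have hM : K ⊓ L ≤ Z := by
    refine ExpTwoLength71.le_of_odd_centralizes hO hZ ?_ fun x hx => hKZ x hx.1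
    refine Nat.Coprime.coprime_dvd_left (PLengthBound.relIndex_dvd_relIndex_right inf_le_right) ?_
    have h1 := PLengthBound.relIndex_upperPSeries_even (p := 2) (G := G ⧸ Z) Even.zero
    rw [← ExpTwoLength71.relIndex_comap_upperPSeries hπs, hZ0] at h1
    exact h1
  obtain ⟨m, hm⟩ : ∃ m, Nat.card J = 2 ^ m := by
    obtain ⟨a, ha⟩ := (hZ.to_le hM).exists_card_eq
    obtain ⟨b, hb⟩ := PLengthBound.relIndex_upperPSeries_odd (p := 2) (G := G ⧸ Z) (n := 1) (by simp)
    have hd : (K ⊓ L).relIndex J ∣ 2 ^ b := by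
      refine ExpTwoLength71.relIndex_inf_dvd_mul.trans (dvd_of_eq ?_)
      rw [relIndex_self, one_mul, hL, hP₁, ExpTwoLength71.relIndex_comap_upperPSeries hπs, hb]
    obtain ⟨i, -, hi⟩ := (Nat.dvd_prime_pow Nat.prime_two).1 hd
    refine ⟨a + i, ?_⟩
    rw [← card_mul_relIndex (inf_le_inf_left K (comap_mono (upperPSeries_le_succ 1)) : K ⊓ L ≤ J),
      ha, hi, pow_add]
  have hP : PLengthLE 2 n (G ⧸ P₁) := by
    have h2 : PLengthLE 2 n ((G ⧸ Z) ⧸ (upperPSeries 2 (G ⧸ Z) 2).1) := by
      have hs := QuotientGroup.mk'_surjective (upperPSeries 2 (G ⧸ Z) 2).1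
      have hc := comap_upperPSeries (p := 2) hs (by norm_num : Even 2) (QuotientGroup.ker_mk' _)
        (2 * n + 1)
      unfold PLengthLE at hQ ⊢
      rw [show 2 * n + 1 + 2 = 2 * (n + 1) + 1 by omega, hQ] at hc
      exact comap_injective hs (hc.trans (comap_top _).symm)
    obtain ⟨φ, -⟩ := exists_quotient_equiv hπs P₁ (upperPSeries 2 (G ⧸ Z) 2).1 hP₁.symm
    exact PLengthBound.pLengthLE_of_surjective (f := φ.symm.toMonoidHom) φ.symm.surjective h2
  have hGJ : PLengthLE 2 n (G ⧸ J) := ExpTwoLength71.pLengthLE_quotient_inf hK hP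
  set ψ := QuotientGroup.mk' J with hψ
  have hψs : Function.Surjective ψ := QuotientGroup.mk'_surjective J
  let V : ℕ → Subgroup G := fun i => if i < 2 then ⊥ else (upperPSeries 2 (G ⧸ J) (i - 2)).1.comap ψ
  have hV : ∀ i, V (i + 2) = (upperPSeries 2 (G ⧸ J) i).1.comap ψ := fun i => by
    show (if i + 2 < 2 then ⊥ else _) = _
    rw [if_neg (by omega), show i + 2 - 2 = i by omega]
  have hV0 : V 0 = ⊥ := rfl
  have hV1 : V 1 = ⊥ := rfl
  refine ExpTwoLength71.pLengthLE_of_series (n + 1) V (fun i => ?_) bot_le (fun j _ => ?_)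
    (fun j _ => ?_) ?_
  · by_cases hi : i < 2
    · rw [show V i = ⊥ from if_pos hi]; infer_instance
    · rw [show V i = _ from if_neg hi]; infer_instance
  · cases j with
    | zero => rw [hV0, hV1, relIndex_self]; exact Nat.coprime_one_left 2
    | succ j =>
      rw [show 2 * (j + 1) + 1 = 2 * j + 1 + 2 by omega, show 2 * (j + 1) = 2 * j + 2 by omega, hV,
        hV, ExpTwoLength71.relIndex_comap_upperPSeries hψs]
      exact PLengthBound.relIndex_upperPSeries_even (even_two_mul j)
  · cases j with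
    | zero =>
      refine ⟨m, ?_⟩
      rw [hV1, show V (2 * 0 + 2) = J by
        rw [hV, upperPSeries_zero, MonoidHom.comap_bot, QuotientGroup.ker_mk'], relIndex_bot_left, hm]
    | succ j =>
      rw [show 2 * (j + 1) + 1 = 2 * j + 1 + 2 by omega,
        show 2 * (j + 1) + 2 = 2 * j + 2 + 2 by omega, hV, hV,
        ExpTwoLength71.relIndex_comap_upperPSeries hψs]
      exact PLengthBound.relIndex_upperPSeries_odd (by simp [parity_simps])
  · rw [show 2 * (n + 1) + 1 = 2 * n + 1 + 2 by omega, hV, (hGJ : (upperPSeries 2 _ _).1 = ⊤),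
      comap_top]

/-- **A layer lowers the length.** -/
theorem pLengthLE_of_layer {n : ℕ} (ih : LengthBound.{u} (n + 1)) {H : Type u} [Group H] [Finite H]
    [Group.IsSolvable H] (hO : pPrimeCore 2 H = ⊥) (Z : Subgroup H) [Z.Normal]
    (hc : ∀ a ∈ Z, ∀ b ∈ Z, a * b = b * a) (h2 : ∀ a ∈ Z, a ^ 2 = 1)
    (htop : ∀ T : Sylow 2 H, dser (T : Subgroup H) (n + 1) ≤ Z)
    (hchain : ∀ (T : Sylow 2 H) (t : ℕ → H), (∀ i ≤ n, t i ∈ dser (T : Subgroup H) i) →
      ∀ z ∈ Z, chainElt t z n = 1) : PLengthLE 2 (n + 1) H := by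
  haveI : Fact (Nat.Prime 2) := ⟨Nat.prime_two⟩
  haveI : IsMulCommutative Z := ⟨⟨fun a b => Subtype.ext (hc a a.2 b b.2)⟩⟩
  set α : H →* MulAut Z := MulAut.conjNormal with hα
  have hact : Acts α n := by
    refine ⟨fun T x hx => MulEquiv.ext fun z => Subtype.ext ?_, fun T t ht z => Subtype.ext ?_⟩
    · rw [hα, MulAut.conjNormal_apply, MulAut.one_apply, hc x (htop T hx) _ z.2,
        mul_inv_cancel_right]
    · have key : ∀ i, ((chainAct α t z i : Z) : H) = chainElt t (z : H) i := by
        intro i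
        induction i with
        | zero =>
          rw [chainAct, chainElt, commutatorElement_def, Subgroup.coe_div, hα,
            MulAut.conjNormal_apply, div_eq_mul_inv]
        | succ i ihi =>
          rw [chainAct, chainElt, commutatorElement_def, Subgroup.coe_div, hα,
            MulAut.conjNormal_apply, ← hα, ihi, div_eq_mul_inv]
      rw [key, hchain T t ht z z.2]
      rfl
  obtain ⟨K, hKn, hK, hKa⟩ :=
    exists_kernel ih (Nat.card Z) Z α le_rfl (fun a => Subtype.ext (h2 a a.2)) hact
  have hπs : Function.Surjective (QuotientGroup.mk' Z) := QuotientGroup.mk'_surjective Z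
  haveI : Group.IsSolvable (H ⧸ Z) := Group.isSolvable_of_surjective hπs
  have hQ : PLengthLE 2 (n + 1) (H ⧸ Z) := ih (H ⧸ Z) fun P => by
    obtain ⟨T, rfl⟩ := Sylow.mapSurjective_surjective hπs 2 P
    rw [Sylow.coe_mapSurjective, ← map_dser, Subgroup.map_eq_bot_iff, QuotientGroup.ker_mk']
    exact htop T
  refine pLengthLE_of_quotient_kernel hO Z
    (fun a => ⟨1, Subtype.ext (by simpa using h2 a a.2)⟩) hQ K hK fun x hx hxo a ha => ?_
  have h1 := congrArg Subtype.val (DFunLike.congr_fun (hKa x hx hxo) (⟨a, ha⟩ : Z))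
  rw [hα, MulAut.conjNormal_apply, MulAut.one_apply] at h1
  exact mul_inv_eq_iff_eq_mul.1 h1

/-- **The bound for modules gives the bound for groups.** -/
theorem pLengthLE_succ {k : ℕ}
    (hmod : ∀ {K : Type} {V H : Type u} [Field K] [IsAlgClosed K] [CharP K 2] [AddCommGroup V]
      [Module K V] [FiniteDimensional K V] [Group H] [Finite H] [Group.IsSolvable H]
      (ρ : H →* Module.End K V), Function.Injective ρ → pCore 2 H = ⊥ → Hyp ρ k →
      PLengthLE 2 k H) : LengthBound.{u} (k + 1) := by
  classical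
  intro G _ _ _ hG
  haveI : Fact (Nat.Prime 2) := ⟨Nat.prime_two⟩
  obtain ⟨G₁, _, _, f, E, hL⟩ := exists_layer (p := 2) (isPSolvable_of_isSolvable (G := G))
  haveI := hL.normal
  haveI : IsMulCommutative E := ⟨⟨fun a b => Subtype.ext (hL.comm a a.2 b b.2)⟩⟩
  set F := (QuotientGroup.mk' E).comp f with hF
  have hFs : Function.Surjective F := (QuotientGroup.mk'_surjective E).comp hL.surj
  haveI : Group.IsSolvable (G₁ ⧸ E) := Group.isSolvable_of_surjective hFs
  refine pLengthLE_succ_of_map hFs hL.ker_eq ?_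
  have hG₁ : ∀ S : Sylow 2 G₁, dser (S : Subgroup G₁) (k + 1) = ⊥ := fun S => by
    obtain ⟨P, rfl⟩ := Sylow.mapSurjective_surjective hL.surj 2 S
    rw [Sylow.coe_mapSurjective, ← map_dser, hG P, Subgroup.map_bot]
  haveI : Module (ZMod 2) (Additive E) := AddCommGroup.zmodModule fun v => by
    apply Additive.toMul.injective
    rw [toMul_nsmul, toMul_zero]
    exact Subtype.ext (hL.pow _ (Additive.toMul v).2)
  haveI : FiniteDimensional (ZMod 2) (Additive E) := Module.Finite.of_finite
  set φ₁ : G₁ →* Module.End (ZMod 2) (Additive E) := endRep MulAut.conjNormal with hφ₁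
  have hker₁ : E = φ₁.ker := by rw [hφ₁, ker_endRep, ker_conjNormal hL.comm hL.centralizer_le]
  set ρ₁ : G₁ ⧸ E →* Module.End (ZMod 2) (Additive E) := QuotientGroup.lift E φ₁ hker₁.le with hρ₁
  have hρ₁inj : Function.Injective ρ₁ := by
    rw [injective_iff_map_eq_one]
    intro z hz
    obtain ⟨z, rfl⟩ := QuotientGroup.mk_surjective z
    rw [QuotientGroup.eq_one_iff, hker₁, MonoidHom.mem_ker]
    exact hz
  let K := AlgebraicClosure (ZMod 2)
  haveI : CharP K 2 := charP_of_injective_algebraMap (algebraMap (ZMod 2) K).injective 2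
  let β : Module.End (ZMod 2) (Additive E) →ₐ[ZMod 2] Module.End K (K ⊗[ZMod 2] Additive E) :=
    Module.End.baseChangeHom (ZMod 2) K (Additive E)
  have hβ : Function.Injective β := LinearMap.baseChangeHom_injective (ZMod 2) (Additive E) K
  let ρ : G₁ ⧸ E →* Module.End K (K ⊗[ZMod 2] Additive E) := β.toRingHom.toMonoidHom.comp ρ₁
  have hρs : ∀ s : G₁, ρ (QuotientGroup.mk' E s) = β (φ₁ s) := fun s => rfl
  -- `φ₁ s - 1` is the commutator with `s`
  have hop : ∀ (s : G₁) (w : Additive E),
      (((φ₁ s - 1) w).toMul : G₁) = ⁅s, ((w.toMul : E) : G₁)⁆ := fun s w => by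
    show (((φ₁ s w - w : Additive E).toMul : E) : G₁) = _
    rw [toMul_sub, Subgroup.coe_div, hφ₁, ← ofMul_toMul w, endRep_apply, toMul_ofMul, toMul_ofMul,
      MulAut.conjNormal_apply, commutatorElement_def, div_eq_mul_inv]
  refine hmod ρ (fun a b h => hρ₁inj (hβ h)) hL.pCore_eq_bot ⟨fun T => ?_, fun T t ht => ?_,
    fun T a ha b hb => ?_⟩
  · obtain ⟨S, rfl⟩ := Sylow.mapSurjective_surjective (QuotientGroup.mk'_surjective E) 2 T
    rw [Sylow.coe_mapSurjective, ← map_dser, hG₁ S, Subgroup.map_bot]
  · obtain ⟨S, rfl⟩ := Sylow.mapSurjective_surjective (QuotientGroup.mk'_surjective E) 2 T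
    simp only [Sylow.coe_mapSurjective, ← map_dser] at ht
    choose s hs using ht
    let s' : ℕ → G₁ := fun i => if hi : i ≤ k then s i hi else 1
    have hs' : ∀ i ≤ k, s' i ∈ dser (S : Subgroup G₁) i ∧ QuotientGroup.mk' E (s' i) = t i :=
      fun i hi => by
        simp only [s', dif_pos hi]
        exact hs i hi
    have h1 : ∀ i ≤ k, chainOp ρ t i = β (chainOp φ₁ s' i) := by
      intro i hi
      induction i with
      | zero => rw [chainOp, chainOp, ← (hs' 0 hi).2, hρs, map_sub, map_one]
      | succ i ihi =>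
        rw [chainOp, chainOp, ihi (by omega), ← (hs' (i + 1) hi).2, hρs, map_mul, map_sub, map_one]
    have h2 : ∀ i w, (((chainOp φ₁ s' i w : Additive E).toMul : E) : G₁) =
        chainElt s' ((w.toMul : E) : G₁) i := by
      intro i w
      induction i with
      | zero => exact hop _ w
      | succ i ihi => rw [chainOp, Module.End.mul_apply, hop, ihi]; rfl
    rw [h1 k le_rfl, show chainOp φ₁ s' k = 0 from LinearMap.ext fun w => ?_, map_zero]
    apply Additive.toMul.injective
    apply Subtype.ext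
    rw [h2]
    have hm := chainElt_mem (S := (S : Subgroup G₁)) (hL.le_sylow S (Additive.toMul w).2) k
      fun j hj => (hs' j hj).1
    rw [hG₁ S, mem_bot] at hm
    exact hm
  · obtain ⟨S, rfl⟩ := Sylow.mapSurjective_surjective (QuotientGroup.mk'_surjective E) 2 T
    rw [Sylow.coe_mapSurjective, ← map_dser] at ha hb
    obtain ⟨a, ha, rfl⟩ := ha
    obtain ⟨b, hb, rfl⟩ := hb
    have hsub : ∀ c : G₁, β (φ₁ c) - 1 = β (φ₁ c - 1) := fun c => by rw [map_sub, map_one]
    rw [hρs, hρs, hsub, hsub, ← map_mul,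
      show (φ₁ a - 1) * (φ₁ b - 1) = 0 from LinearMap.ext fun w => ?_, map_zero]
    apply Additive.toMul.injective
    apply Subtype.ext
    rw [Module.End.mul_apply, hop, hop]
    have hw := hL.le_sylow S (Additive.toMul w).2
    have hbw : ⁅b, ((w.toMul : E) : G₁)⁆ ∈ dser (S : Subgroup G₁) k := by
      rw [show ⁅b, ((w.toMul : E) : G₁)⁆ =
        b * (((w.toMul : E) : G₁) * b⁻¹ * ((w.toMul : E) : G₁)⁻¹) by
          rw [commutatorElement_def]; group]
      exact mul_mem hb (conj_mem_dser_of_mem hw k (inv_mem hb))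
    have hm : ⁅a, ⁅b, ((w.toMul : E) : G₁)⁆⁆ ∈ dser (S : Subgroup G₁) (k + 1) :=
      commutator_mem_commutator ha hbw
    rw [hG₁ S, mem_bot] at hm
    exact hm

end Cfsg.Agent.Lib.DerivedTwoLength34
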