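import Cfsg.Agent.Lib.DerivedTwoLength34.Defs
import Cfsg.Agent.Lib.GrossTwo.Group

/-!
# Involutions normalising an irreducible `q`-group of class two

`G` acts faithfully in characteristic two, `Q` is a normal `q`-subgroup of class at most two, irreducible
on the whole space. Two commuting involutions with vanishing product of `x - 1` are equal, and no
element of `Q` outside the centre is centralised only by commuting with the fixed elements.
-/

set_option autoImplicit false
set_option linter.unusedSectionVars false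
set_option linter.style.haveILetI false

namespace Cfsg.Agent.Lib.DerivedTwoLength34

open Subgroup Cfsg.Agent.Lib.HallHigmanB Cfsg.Agent.Lib.HallHigmanFermat
open scoped commutatorElement

variable {K V G : Type*} [Field K] [AddCommGroup V] [Module K V] [Group G]

/-- The setting. -/
structure Irr (ρ : G →* Module.End K V) (Q : Subgroup G) (q : ℕ) : Prop where
  inj : Function.Injective ρ
  normal : Q.Normal
  isPGroup : IsPGroup q Q
  ne_two : q ≠ 2
  cls : ∀ a ∈ Q, ∀ b ∈ Q, ∀ c ∈ Q, ⁅a, b⁆ * c = c * ⁅a, b⁆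
  irred : IrredSub ρ Q ⊤

variable {ρ : G →* Module.End K V} {Q : Subgroup G} {q : ℕ}

theorem Irr.conj_mem (h : Irr ρ Q q) (g : G) {u : G} (hu : u ∈ Q) : g * u * g⁻¹ ∈ Q :=
  h.normal.conj_mem u hu g

theorem Irr.nontrivial (h : Irr ρ Q q) : Nontrivial V := by
  obtain ⟨v, -, hv⟩ := (Submodule.ne_bot_iff _).1 h.irred.1
  exact ⟨v, 0, hv⟩

theorem Irr.odd_orderOf [hq : Fact q.Prime] (h : Irr ρ Q q) {u : G} (hu : u ∈ Q) :
    Odd (orderOf u) := by
  obtain ⟨k, hk⟩ := h.isPGroup ⟨u, hu⟩
  have hd : orderOf u ∣ q ^ k := orderOf_dvd_of_pow_eq_one (congrArg Subtype.val hk :)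
  exact ((hq.out.odd_of_ne_two h.ne_two).pow).of_dvd_nat hd

/-- An element of `Q` with trivial square is trivial. -/
theorem Irr.eq_one_of_sq [Fact q.Prime] (h : Irr ρ Q q) {u : G} (hu : u ∈ Q) (h2 : u ^ 2 = 1) :
    u = 1 := by
  obtain ⟨j, hj⟩ := exists_pow_eq_self_of_coprime (n := 2) (x := u)
    (Nat.coprime_two_left.2 (h.odd_orderOf hu))
  rw [← hj, h2, one_pow]

/-- An element of `Q` is a power of its square. -/
theorem Irr.exists_sq [Fact q.Prime] (h : Irr ρ Q q) {u : G} (hu : u ∈ Q) :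
    ∃ j : ℕ, (u ^ 2) ^ j = u :=
  exists_pow_eq_self_of_coprime (n := 2) (x := u) (Nat.coprime_two_left.2 (h.odd_orderOf hu))

/-- Working modulo the centre. -/
abbrev modCenter (G : Type*) [Group G] : G →* G ⧸ center G := QuotientGroup.mk' (center G)

theorem modCenter_eq_one_iff {x : G} : modCenter G x = 1 ↔ x ∈ center G :=
  QuotientGroup.eq_one_iff x

variable [IsAlgClosed K] [FiniteDimensional K V]

/-- An element commuting with `Q` is central. -/
theorem Irr.mem_center (h : Irr ρ Q q) {z : G} (hz : ∀ u ∈ Q, Commute z u) : z ∈ center G := by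
  haveI : Nontrivial (⊤ : Submodule K V) :=
    Submodule.nontrivial_iff_ne_bot.2 h.irred.1
  obtain ⟨c, hc⟩ := (isIrred_restrictRep h.irred).exists_scalar
    ((ρ z).restrict (p := ⊤) (q := ⊤) fun _ _ => Submodule.mem_top) fun g => by
      refine LinearMap.ext fun w => Subtype.ext ?_
      show ρ z (ρ (g : G) (w : V)) = ρ (g : G) (ρ z (w : V))
      rw [← Module.End.mul_apply, ← map_mul, (hz _ g.2).eq, map_mul, Module.End.mul_apply]
  have hs : ∀ v : V, ρ z v = c • v := fun v =>
    congrArg Subtype.val (LinearMap.congr_fun hc ⟨v, Submodule.mem_top⟩)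
  refine mem_center_iff.2 fun g => h.inj (LinearMap.ext fun v => ?_)
  rw [map_mul, map_mul, Module.End.mul_apply, Module.End.mul_apply, hs, hs, map_smul]

theorem Irr.commutator_mem_center (h : Irr ρ Q q) {a b : G} (ha : a ∈ Q) (hb : b ∈ Q) :
    ⁅a, b⁆ ∈ center G :=
  h.mem_center fun c hc => h.cls a ha b hb c hc

theorem Irr.commutator_mul (h : Irr ρ Q q) {g a b : G} (hg : g ∈ Q) (ha : a ∈ Q) (hb : b ∈ Q) :
    ⁅g, a * b⁆ = ⁅g, a⁆ * ⁅g, b⁆ := by
  have h1 := h.cls g hg b hb a ha
  calc ⁅g, a * b⁆ = ⁅g, a⁆ * (a * ⁅g, b⁆ * a⁻¹) := by simp only [commutatorElement_def]; group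
    _ = ⁅g, a⁆ * ⁅g, b⁆ := by rw [← h1, mul_inv_cancel_right]

theorem Irr.modCenter_commute (h : Irr ρ Q q) {a b : G} (ha : a ∈ Q) (hb : b ∈ Q) :
    Commute (modCenter G a) (modCenter G b) := by
  rw [← commutatorElement_eq_one_iff_commute, ← map_commutatorElement, modCenter_eq_one_iff]
  exact h.commutator_mem_center ha hb

/-- An involution fixing a coset of the centre fixes each of its elements in `Q`. -/
theorem Irr.fix_of_fix_mod [Fact q.Prime] (h : Irr ρ Q q) {z u : G} (hz : z ^ 2 = 1) (hu : u ∈ Q)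
    (hfix : modCenter G (z * u * z⁻¹) = modCenter G u) : Commute z u := by
  set ζ := u⁻¹ * (z * u * z⁻¹) with hζ
  have hζc : ζ ∈ center G := by
    rw [← modCenter_eq_one_iff, hζ, map_mul, map_inv, hfix, inv_mul_cancel]
  have hζQ : ζ ∈ Q := mul_mem (inv_mem hu) (h.conj_mem z hu)
  have e1 : z * u * z⁻¹ = u * ζ := by rw [hζ, mul_inv_cancel_left]
  have hzz : z * z = 1 := by rw [← pow_two]; exact hz
  have e2 : u * ζ * ζ = u := by
    calc u * ζ * ζ = z * u * z⁻¹ * (z * ζ * z⁻¹) := by
          rw [mem_center_iff.1 hζc z, mul_inv_cancel_right, e1]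
      _ = z * (u * ζ) * z⁻¹ := by group
      _ = z * (z * u * z⁻¹) * z⁻¹ := by rw [e1]
      _ = z * z * u * (z * z)⁻¹ := by group
      _ = u := by rw [hzz]; group
  have h2 : ζ ^ 2 = 1 := by
    rw [pow_two]
    exact left_eq_mul.1 ((mul_assoc u ζ ζ).symm.trans e2).symm
  rw [h.eq_one_of_sq hζQ h2, mul_one, mul_inv_eq_iff_eq_mul] at e1
  exact e1

/-- An involution commuting with `Q` is trivial. -/
theorem Irr.eq_one_of_commute [CharP K 2] (h : Irr ρ Q q) {z : G} (hz : z ^ 2 = 1)
    (hcomm : ∀ u ∈ Q, Commute z u) : z = 1 := by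
  haveI : Nontrivial (⊤ : Submodule K V) :=
    Submodule.nontrivial_iff_ne_bot.2 h.irred.1
  obtain ⟨c, hc⟩ := (isIrred_restrictRep h.irred).exists_scalar
    ((ρ z).restrict (p := ⊤) (q := ⊤) fun _ _ => Submodule.mem_top) fun g => by
      refine LinearMap.ext fun w => Subtype.ext ?_
      show ρ z (ρ (g : G) (w : V)) = ρ (g : G) (ρ z (w : V))
      rw [← Module.End.mul_apply, ← map_mul, (hcomm _ g.2).eq, map_mul, Module.End.mul_apply]
  have hs : ∀ v : V, ρ z v = c • v := fun v =>
    congrArg Subtype.val (LinearMap.congr_fun hc ⟨v, Submodule.mem_top⟩)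
  haveI := h.nontrivial
  obtain ⟨v, hv⟩ := exists_ne (0 : V)
  have h2 : (c * c - 1) • v = 0 := by
    rw [sub_smul, one_smul, mul_smul, ← hs, ← hs, ← Module.End.mul_apply, ← map_mul,
      ← pow_two, hz, map_one, Module.End.one_apply, sub_self]
  have hc1 : c = 1 := by
    have h3 := (smul_eq_zero.1 h2).resolve_right hv
    have : (c - 1) ^ 2 = 0 := by rw [CharTwo.sub_eq_add, CharTwo.add_sq, one_pow, ← CharTwo.sub_eq_add, pow_two, h3]
    exact sub_eq_zero.1 (pow_eq_zero_iff two_ne_zero |>.1 this)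
  refine h.inj (LinearMap.ext fun v => ?_)
  rw [hs, hc1, one_smul, map_one, Module.End.one_apply]

/-- The range of an operator commuting with `v` is invariant. -/
theorem range_invariant (ρ : G →* Module.End K V) {g v : G} (hgv : Commute g v) {x : V}
    (hx : x ∈ LinearMap.range (ρ g - 1)) : ρ v x ∈ LinearMap.range (ρ g - 1) := by
  obtain ⟨w, rfl⟩ := hx
  refine ⟨ρ v w, ?_⟩
  simp only [LinearMap.sub_apply, Module.End.one_apply, map_sub]
  rw [← Module.End.mul_apply, ← map_mul, hgv.eq, map_mul, Module.End.mul_apply]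

/-- An element of `Q` which is scalar on a nonzero invariant subspace commutes with whatever fixes it. -/
theorem Irr.commute_of_scalar (h : Irr ρ Q q) {P : Submodule K V} (hP : P ≠ ⊥) {x v : G}
    (hx : x ∈ Q) (hv : v ∈ Q) (hvP : ∀ w ∈ P, ρ v w ∈ P) {c : K}
    (hc : ∀ w ∈ P, ρ x w = c • w) : Commute x v := by
  obtain ⟨w, hw, hw0⟩ := (Submodule.ne_bot_iff P).1 hP
  have hζ := h.commutator_mem_center hx hv
  have hsw : ρ (x * v) w = ρ (v * x) w := by
    rw [map_mul, map_mul, Module.End.mul_apply, Module.End.mul_apply, hc w hw, map_smul,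
      hc _ (hvP w hw)]
  have e : x * v = v * x * ⁅x, v⁆ := by
    rw [mem_center_iff.1 hζ (v * x), commutatorElement_def]; group
  haveI : Nontrivial (⊤ : Submodule K V) := Submodule.nontrivial_iff_ne_bot.2 h.irred.1
  obtain ⟨d, hd⟩ := (isIrred_restrictRep h.irred).exists_scalar
    ((ρ ⁅x, v⁆).restrict (p := ⊤) (q := ⊤) fun _ _ => Submodule.mem_top) fun g => by
      refine LinearMap.ext fun w => Subtype.ext ?_
      show ρ ⁅x, v⁆ (ρ (g : G) (w : V)) = ρ (g : G) (ρ ⁅x, v⁆ (w : V))
      rw [← Module.End.mul_apply, ← map_mul, ← mem_center_iff.1 hζ (g : G), map_mul,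
        Module.End.mul_apply]
  have hs : ∀ u : V, ρ ⁅x, v⁆ u = d • u := fun u =>
    congrArg Subtype.val (LinearMap.congr_fun hd ⟨u, Submodule.mem_top⟩)
  rw [e, map_mul ρ (v * x), Module.End.mul_apply, hs, map_smul] at hsw
  have hd1 : d = 1 := by
    have hne : ρ (v * x) w ≠ 0 := fun h0 => hw0 (by
      have := congrArg (ρ (v * x)⁻¹) h0
      rwa [apply_inv_apply, map_zero] at this)
    have : (d - 1) • ρ (v * x) w = 0 := by rw [sub_smul, one_smul, hsw, sub_self]
    exact sub_eq_zero.1 ((smul_eq_zero.1 this).resolve_right hne)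
  rw [← commutatorElement_eq_one_iff_commute]
  refine h.inj (LinearMap.ext fun u => ?_)
  rw [hs, hd1, one_smul, map_one, Module.End.one_apply]

/-- An element of `Q` inverted modulo the centre by `y` is scalar where `y` is trivial. -/
theorem Irr.exists_scalar_of_inverted [Fact q.Prime] (h : Irr ρ Q q) {P : Submodule K V} {x y : G}
    (hx : x ∈ Q) (hinv : modCenter G (y * x * y⁻¹) = (modCenter G x)⁻¹)
    (hxP : ∀ w ∈ P, ρ x w ∈ P) (hyP : ∀ w ∈ P, ρ y w = w) :
    ∃ c : K, ∀ w ∈ P, ρ x w = c • w := by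
  set ζ := y * x * y⁻¹ * x with hζ
  have hζc : ζ ∈ center G := by
    rw [← modCenter_eq_one_iff, hζ, map_mul, hinv, inv_mul_cancel]
  haveI : Nontrivial (⊤ : Submodule K V) := Submodule.nontrivial_iff_ne_bot.2 h.irred.1
  obtain ⟨d, hd⟩ := (isIrred_restrictRep h.irred).exists_scalar
    ((ρ ζ).restrict (p := ⊤) (q := ⊤) fun _ _ => Submodule.mem_top) fun g => by
      refine LinearMap.ext fun w => Subtype.ext ?_
      show ρ ζ (ρ (g : G) (w : V)) = ρ (g : G) (ρ ζ (w : V))
      rw [← Module.End.mul_apply, ← map_mul, ← mem_center_iff.1 hζc (g : G), map_mul,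
        Module.End.mul_apply]
  have hs : ∀ u : V, ρ ζ u = d • u := fun u =>
    congrArg Subtype.val (LinearMap.congr_fun hd ⟨u, Submodule.mem_top⟩)
  have hyi : ∀ w ∈ P, ρ y⁻¹ w = w := fun w hw => by
    conv_lhs => rw [← hyP w hw]
    exact apply_inv_apply ρ y w
  have hsq : ∀ w ∈ P, ρ (x ^ 2) w = d • w := fun w hw => by
    have hz : ρ ζ w = ρ (x ^ 2) w := by
      rw [hζ, map_mul, map_mul, map_mul, Module.End.mul_apply, Module.End.mul_apply,
        Module.End.mul_apply, hyi _ (hxP w hw), hyP _ (hxP _ (hxP w hw)), pow_two, map_mul,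
        Module.End.mul_apply]
    rw [← hz, hs]
  obtain ⟨j, hj⟩ := h.exists_sq hx
  have hpow : ∀ i : ℕ, ∀ w ∈ P, ρ ((x ^ 2) ^ i) w = d ^ i • w := by
    intro i
    induction i with
    | zero => intro w _; simp
    | succ i ih =>
      intro w hw
      rw [pow_succ, map_mul, Module.End.mul_apply, hsq w hw, map_smul, ih w hw, smul_smul, ← pow_succ']
  exact ⟨d ^ j, fun w hw => by rw [← hpow j w hw, hj]⟩

/-- An element commuting with every element of `Q` fixed by a set of commuting involutions fixing it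
commutes with `Q`. -/
theorem Irr.commute_of_fixed [Fact q.Prime] (h : Irr ρ Q q) {x : G} (hx : x ∈ Q) :
    ∀ S : Finset G, (∀ e ∈ S, e ^ 2 = 1) → (∀ e ∈ S, ∀ f ∈ S, Commute e f) →
      (∀ e ∈ S, Commute e x) → (∀ v ∈ Q, (∀ e ∈ S, Commute e v) → Commute x v) →
      ∀ v ∈ Q, Commute x v := by
  classical
  intro S
  induction S using Finset.induction_on with
  | empty => intro _ _ _ hS v hv; exact hS v hv (by simp)
  | @insert e S _ ih =>
    intro h2 hcomm hfix hS
    refine ih (fun f hf => h2 f (Finset.mem_insert_of_mem hf))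
      (fun f hf g hg => hcomm f (Finset.mem_insert_of_mem hf) g (Finset.mem_insert_of_mem hg))
      (fun f hf => hfix f (Finset.mem_insert_of_mem hf)) fun v hv hvS => ?_
    have he2 := h2 e (Finset.mem_insert_self e S)
    have hcv := h.conj_mem e hv
    set v' := v * (e * v * e⁻¹) with hv'
    have hv'Q : v' ∈ Q := mul_mem hv hcv
    have hev : Commute e v' := by
      refine h.fix_of_fix_mod he2 hv'Q ?_
      have e1 : e * v' * e⁻¹ = (e * v * e⁻¹) * (e * e * v * (e * e)⁻¹) := by rw [hv']; group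
      rw [e1, ← pow_two, he2, one_mul, inv_one, mul_one, hv', map_mul _ v, map_mul]
      exact h.modCenter_commute hcv hv
    have hv'S : ∀ f ∈ insert e S, Commute f v' := by
      intro f hf
      rcases Finset.mem_insert.1 hf with rfl | hfS
      · exact hev
      · exact (hvS f hfS).mul_right (((hcomm f hf e (Finset.mem_insert_self e S)).mul_right
          (hvS f hfS)).mul_right (hcomm f hf e (Finset.mem_insert_self e S)).inv_right)
    have hxv : Commute x v' := hS v' hv'Q hv'S
    have hex : e * x * e⁻¹ = x := by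
      rw [(hfix e (Finset.mem_insert_self e S)).eq, mul_inv_cancel_right]
    have hζ := h.commutator_mem_center hx hv
    have hmul : ⁅x, v'⁆ = ⁅x, v⁆ * ⁅x, e * v * e⁻¹⁆ :=
      h.commutator_mul hx hv hcv
    have hee : ⁅x, e * v * e⁻¹⁆ = ⁅x, v⁆ := by
      conv_lhs => rw [← hex]
      have := (map_commutatorElement (MulAut.conj e).toMonoidHom x v).symm
      simp only [MulEquiv.toMonoidHom_eq_coe, MonoidHom.coe_coe, MulAut.conj_apply] at this
      rw [this, mem_center_iff.1 hζ e, mul_inv_cancel_right]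
    rw [commutatorElement_eq_one_iff_commute.2 hxv, hee, ← pow_two] at hmul
    rw [← commutatorElement_eq_one_iff_commute]
    exact h.eq_one_of_sq (mul_mem (mul_mem (mul_mem hx hv) (inv_mem hx)) (inv_mem hv)) hmul.symm

/-- **The quadratic pair.** -/
theorem Irr.eq_of_quad [Fact q.Prime] [CharP K 2] (h : Irr ρ Q q) {g y : G} (hg2 : g ^ 2 = 1)
    (hy2 : y ^ 2 = 1) (hgy : Commute g y) (hg : g ≠ 1) (hy : y ≠ 1)
    (hquad : (ρ g - 1) * (ρ y - 1) = 0) : g = y := by
  classical
  have key : ∀ {g y : G}, g ^ 2 = 1 → y ^ 2 = 1 → Commute g y → g ≠ 1 →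
      (ρ g - 1) * (ρ y - 1) = 0 → ∀ u ∈ Q, Commute g u → Commute y u := by
    intro g y hg2 hy2 hgy hg hquad u hu hgu
    refine h.fix_of_fix_mod hy2 hu ?_
    set x := y * u * y⁻¹ * u⁻¹ with hxdef
    have hxQ : x ∈ Q := mul_mem (h.conj_mem y hu) (inv_mem hu)
    have hgx : Commute g x :=
      ((hgy.mul_right hgu).mul_right hgy.inv_right).mul_right hgu.inv_right
    have hinv : modCenter G (y * x * y⁻¹) = (modCenter G x)⁻¹ := by
      have e : y * x * y⁻¹ = y * y * u * (y * y)⁻¹ * (y * u * y⁻¹)⁻¹ := by rw [hxdef]; group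
      rw [e, ← pow_two, hy2, one_mul, inv_one, mul_one, hxdef, map_mul, map_mul _ (y * u * y⁻¹),
        map_inv, map_inv, mul_inv_rev, inv_inv]
    set P := LinearMap.range (ρ g - 1) with hPdef
    have hP : P ≠ ⊥ := fun h0 => hg (h.inj (by
      rw [map_one]; exact sub_eq_zero.1 (LinearMap.range_eq_bot.1 h0)))
    have hquad' : (ρ y - 1) * (ρ g - 1) = 0 := by
      have : Commute (ρ g - 1) (ρ y - 1) :=
        ((hgy.map ρ).sub_left (Commute.one_left _)).sub_right (Commute.one_right _)
      rw [← this.eq, hquad]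
    have hyP : ∀ w ∈ P, ρ y w = w := by
      rintro _ ⟨w, rfl⟩
      have := LinearMap.congr_fun hquad' w
      rw [Module.End.mul_apply, LinearMap.zero_apply, LinearMap.sub_apply, Module.End.one_apply,
        sub_eq_zero] at this
      exact this
    obtain ⟨c, hc⟩ := h.exists_scalar_of_inverted hxQ hinv (fun w hw => range_invariant ρ hgx hw) hyP
    have hall : ∀ v ∈ Q, Commute x v := h.commute_of_fixed hxQ {g} (by simpa using hg2)
      (by simp) (by simpa using hgx) fun v hv hvS =>
        h.commute_of_scalar hP hxQ hv (fun w hw => range_invariant ρ (hvS g (by simp)) hw) hc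
    have hxc := modCenter_eq_one_iff.2 (h.mem_center hall)
    rwa [hxdef, map_mul _ (y * u * y⁻¹), map_inv, mul_inv_eq_one] at hxc
  have hk : ∀ u ∈ Q, Commute g u ↔ Commute y u := fun u hu =>
    ⟨key hg2 hy2 hgy hg hquad u hu, key hy2 hg2 hgy.symm hy (by
      have : Commute (ρ g - 1) (ρ y - 1) :=
        ((hgy.map ρ).sub_left (Commute.one_left _)).sub_right (Commute.one_right _)
      rw [← this.eq, hquad]) u hu⟩
  have hz2 : (g * y) ^ 2 = 1 := by rw [hgy.mul_pow, hg2, hy2, one_mul]
  have hz : g * y = 1 := by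
    refine h.eq_one_of_commute hz2 fun u hu => ?_
    -- the moved part of `g`, modulo the centre
    set m := modCenter G with hm
    set a := g * u * g⁻¹ * u⁻¹ with ha
    have hgu := h.conj_mem g hu
    have haQ : a ∈ Q := mul_mem hgu (inv_mem hu)
    have hga : m (g * a * g⁻¹) = (m a)⁻¹ := by
      have e : g * a * g⁻¹ = g * g * u * (g * g)⁻¹ * (g * u * g⁻¹)⁻¹ := by rw [ha]; group
      rw [e, ← pow_two, hg2, one_mul, inv_one, mul_one, ha, map_mul, map_mul _ (g * u * g⁻¹),
        map_inv, map_inv, mul_inv_rev, inv_inv]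
    have hay := h.conj_mem y haQ
    set w := a * (y * a * y⁻¹) with hw
    have hwQ : w ∈ Q := mul_mem haQ hay
    have hyw : Commute y w := by
      refine h.fix_of_fix_mod hy2 hwQ ?_
      have e1 : y * w * y⁻¹ = (y * a * y⁻¹) * (y * y * a * (y * y)⁻¹) := by rw [hw]; group
      rw [e1, ← pow_two, hy2, one_mul, inv_one, mul_one, hw, map_mul _ a, map_mul]
      exact h.modCenter_commute hay haQ
    have hgw : Commute g w := (hk w hwQ).2 hyw
    have hgya : m (g * (y * a * y⁻¹) * g⁻¹) = (m (y * a * y⁻¹))⁻¹ := by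
      have e1 : g * (y * a * y⁻¹) * g⁻¹ = y * (g * a * g⁻¹) * y⁻¹ := by
        have := hgy.eq
        calc g * (y * a * y⁻¹) * g⁻¹ = g * y * a * (g * y)⁻¹ := by group
          _ = y * g * a * (y * g)⁻¹ := by rw [this]
          _ = y * (g * a * g⁻¹) * y⁻¹ := by group
      rw [e1, map_mul, map_mul _ y, hga, ← map_inv, ← map_mul, ← map_mul, ← map_inv]
      congr 1
      group
    have hw1 : m w = 1 := by
      have e : m w * m w = 1 := by
        have e2 : g * w * g⁻¹ = g * a * g⁻¹ * (g * (y * a * y⁻¹) * g⁻¹) := by rw [hw]; group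
        have e3 : m w = (m a)⁻¹ * (m (y * a * y⁻¹))⁻¹ := by
          rw [← hga, ← hgya, ← map_mul, ← e2, hgw.eq, mul_inv_cancel_right]
        nth_rw 2 [e3]
        rw [hw, map_mul, ← mul_inv_rev, (h.modCenter_commute hay haQ).eq, mul_inv_cancel]
      obtain ⟨j, hj⟩ := h.exists_sq hwQ
      rw [← hj, map_pow, map_pow, pow_two, e, one_pow]
    have hya : m (y * a * y⁻¹) = (m a)⁻¹ := by
      rw [eq_inv_iff_mul_eq_one, (h.modCenter_commute hay haQ).eq, ← map_mul, ← hw, hw1]
    -- the fixed part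
    set c := g * u * g⁻¹ * u with hc
    have hcQ : c ∈ Q := mul_mem hgu hu
    have hgc : Commute g c := by
      refine h.fix_of_fix_mod hg2 hcQ ?_
      have e1 : g * c * g⁻¹ = g * g * u * (g * g)⁻¹ * (g * u * g⁻¹) := by rw [hc]; group
      rw [e1, ← pow_two, hg2, one_mul, inv_one, mul_one, hc, map_mul _ u, map_mul _ (g * u * g⁻¹)]
      exact h.modCenter_commute hu hgu
    have hyc : Commute y c := (hk c hcQ).1 hgc
    have hu2 : m (u ^ 2) = (m a)⁻¹ * m c := by
      rw [← map_inv, ← map_mul, ha, hc, pow_two]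
      congr 1
      group
    have hfix : m (g * y * u ^ 2 * (g * y)⁻¹) = m (u ^ 2) := by
      have e1 : g * y * u ^ 2 * (g * y)⁻¹ = g * (y * u ^ 2 * y⁻¹) * g⁻¹ := by group
      have ey : m (y * u ^ 2 * y⁻¹) = m a * m c := by
        have e3 : m (y * u ^ 2 * y⁻¹) = (m (y * a * y⁻¹))⁻¹ * m (y * c * y⁻¹) := by
          simp only [map_mul, map_inv, hu2]; group
        rw [e3, hya, inv_inv, hyc.eq, mul_inv_cancel_right]
      rw [e1, map_mul, map_mul _ g, ey, ← map_mul, ← map_mul, ← map_mul,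
        show g * (a * c) * g⁻¹ = g * a * g⁻¹ * (g * c * g⁻¹) by group, map_mul, hga, hgc.eq,
        mul_inv_cancel_right, hu2]
    obtain ⟨j, hj⟩ := h.exists_sq hu
    rw [← hj]
    exact (h.fix_of_fix_mod hz2 (pow_mem hu 2) hfix).pow_right j
  calc g = g * (y * y) := by rw [← pow_two, hy2, mul_one]
    _ = y := by rw [← mul_assoc, hz, one_mul]

end Cfsg.Agent.Lib.DerivedTwoLength34
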