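import Cfsg.Agent.Lib.DerivedTwoLength34.Monomial
import Cfsg.Agent.Lib.DerivedTwoLength34.Irr

/-!
# The components of a normal `q`-subgroup under a `2`-group with vanishing chains

The classes of components are the cosets of the stabiliser of one of them. The image of a subgroup
fixing a component gives the irreducible setting.
-/

set_option autoImplicit false
set_option linter.unusedSectionVars false
set_option linter.style.haveILetI false

namespace Cfsg.Agent.Lib.DerivedTwoLength34

open Module Subgroup Cfsg.Agent.Lib.HallHigmanB Cfsg.Agent.Lib.HallHigmanFermat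
open scoped commutatorElement

variable {K V H : Type*} [Field K] [IsAlgClosed K] [AddCommGroup V] [Module K V]
  [FiniteDimensional K V] [Group H] [Finite H]
  {ρ : H →* Module.End K V} {Q : Subgroup H} {W : Submodule K V}

theorem mem_normalizer_of_normal (hQn : Q.Normal) (t : H) : t ∈ normalizer (Q : Set H) := by
  rw [normalizer_eq_top_iff.2 hQn]; exact mem_top t

/-- The sum of the translates of `W` in one class. -/
def blockSum (hW : IrredSub ρ Q W) (x : H ⧸ classStab ρ hW) : Submodule K V :=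
  ⨆ g : {g : H // (g : H ⧸ classStab ρ hW) = x}, W.map (ρ (g : H))

theorem map_le_blockSum (hW : IrredSub ρ Q W) (g : H) :
    W.map (ρ g) ≤ blockSum hW (g : H ⧸ classStab ρ hW) :=
  le_iSup (fun h : {h : H // (h : H ⧸ classStab ρ hW) = g} => W.map (ρ (h : H))) ⟨g, rfl⟩

theorem blockSum_smul (hW : IrredSub ρ Q W) (t : H) {x : H ⧸ classStab ρ hW} {v : V}
    (hv : v ∈ blockSum hW x) : ρ t v ∈ blockSum hW (t • x) := by
  have hle : blockSum hW x ≤ (blockSum hW (t • x)).comap (ρ t) := by
    refine iSup_le ?_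
    rintro ⟨g, rfl⟩
    rw [← Submodule.map_le_iff_le_comap, map_map_mul]
    exact map_le_blockSum hW (t * g)
  exact hle hv

theorem le_blockSum_one (hW : IrredSub ρ Q W) :
    W ≤ blockSum hW ((1 : H) : H ⧸ classStab ρ hW) := by
  have := map_le_blockSum hW 1
  rwa [map_one, Module.End.one_eq_id, Submodule.map_id] at this

/-- Different classes are independent. -/
theorem blockSum_indep (hQn : Q.Normal) (hW : IrredSub ρ Q W) [Fintype (H ⧸ classStab ρ hW)]
    {f : H ⧸ classStab ρ hW → V} (hf : ∀ x, f x ∈ blockSum hW x) (hsum : ∑ x, f x = 0)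
    (x₀ : H ⧸ classStab ρ hW) : f x₀ = 0 := by
  classical
  haveI := Fintype.ofFinite H
  by_contra hne
  have hN := mem_normalizer_of_normal hQn
  set F : H → Submodule K V := fun g => W.map (ρ g) with hF
  have hFi : ∀ g, IrredSub ρ Q (F g) := fun g => irredSub_map (hN g) hW
  set s₀ := Finset.univ.filter fun g : H => (g : H ⧸ classStab ρ hW) = x₀ with hs₀
  set s₁ := Finset.univ.filter fun g : H => (g : H ⧸ classStab ρ hW) ≠ x₀ with hs₁
  have h0 : blockSum hW x₀ ≤ s₀.sup F :=
    iSup_le fun g => Finset.le_sup (f := F) (by simp [hs₀, g.2])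
  have h1 : f x₀ ∈ s₁.sup F := by
    rw [← Finset.add_sum_erase _ _ (Finset.mem_univ x₀)] at hsum
    rw [eq_neg_of_add_eq_zero_left hsum]
    refine neg_mem (Submodule.sum_mem _ fun x hx => ?_)
    have hle : blockSum hW x ≤ s₁.sup F :=
      iSup_le fun g => Finset.le_sup (f := F)
        (Finset.mem_filter.2 ⟨Finset.mem_univ _, by rw [g.2]; exact Finset.ne_of_mem_erase hx⟩)
    exact hle (hf x)
  have hinv : ∀ s : Finset H, Invt ρ Q (s.sup F) := by
    intro s g hg v hv
    have : s.sup F ≤ (s.sup F).comap (ρ g) := Finset.sup_le fun i hi w hw =>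
      Submodule.mem_comap.2 (SetLike.le_def.1 (Finset.le_sup hi) ((hFi i).2.1 g hg w hw))
    exact this hv
  have hne' : s₀.sup F ⊓ s₁.sup F ≠ ⊥ := fun h => hne (by
    rw [← Submodule.mem_bot K, ← h]; exact ⟨h0 (hf x₀), h1⟩)
  obtain ⟨U, hUle, hU⟩ := exists_irredSub (ρ := ρ) (Q := Q) hne'
    fun g hg v hv => ⟨hinv s₀ g hg v hv.1, hinv s₁ g hg v hv.2⟩
  obtain ⟨a, ha, hUa⟩ := exists_linked_of_le_sup hU F s₀ (fun i _ => hFi i) (hUle.trans inf_le_left)
  obtain ⟨b, hb, hUb⟩ := exists_linked_of_le_sup hU F s₁ (fun i _ => hFi i) (hUle.trans inf_le_right)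
  have hab := Linked.trans (hFi a) hU (hUa.symm hU (hFi a)) hUb
  have h2 := hab.map (inv_mem (hN a)) (hFi a).2.1
  simp only [hF, map_map_mul, inv_mul_cancel, map_one, Module.End.one_eq_id, Submodule.map_id] at h2
  have h3 : a⁻¹ * b ∈ classStab ρ hW := ⟨hN _, h2⟩
  simp only [hs₀, hs₁, Finset.mem_filter] at ha hb
  exact hb.2 ((QuotientGroup.eq.2 h3).symm.trans ha.2)

theorem classStab_eq_of_linked (hW : IrredSub ρ Q W) {U : Submodule K V} (hU : IrredSub ρ Q U)
    (hWU : Linked ρ Q W U) : classStab ρ hU = classStab ρ hW := by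
  ext t
  simp only [mem_classStab, and_congr_right_iff]
  intro ht
  constructor
  · intro h
    exact (Linked.trans hW hU hWU h).trans hW (irredSub_map ht hU)
      ((hWU.symm hW hU).map ht hU.2.1)
  · intro h
    exact ((hWU.symm hW hU).trans hU hW h).trans hU (irredSub_map ht hW) (hWU.map ht hW.2.1)

/-- The stabiliser is the stabiliser of the class. -/
theorem smul_one_eq_iff (hW : IrredSub ρ Q W) {g : H} :
    g • ((1 : H) : H ⧸ classStab ρ hW) = ((1 : H) : H ⧸ classStab ρ hW) ↔ g ∈ classStab ρ hW := by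
  show ((g * 1 : H) : H ⧸ classStab ρ hW) = _ ↔ _
  rw [QuotientGroup.eq]
  simp

/-- The last derived term fixes every class. -/
theorem dser_le_classStab (hQn : Q.Normal) (hW : IrredSub ρ Q W) {k : ℕ} (T : Sylow 2 H)
    (hkills : ∀ t : ℕ → H, (∀ i ≤ k, t i ∈ dser (T : Subgroup H) i) → chainOp ρ t k = 0) :
    dser (T : Subgroup H) k ≤ classStab ρ hW := by
  classical
  haveI := Fintype.ofFinite (H ⧸ classStab ρ hW)
  haveI : Fact (Nat.Prime 2) := ⟨Nat.prime_two⟩
  intro s hs
  by_contra hsS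
  set x₀ : H ⧸ classStab ρ hW := ((1 : H) : H ⧸ classStab ρ hW) with hx₀
  obtain ⟨w, hw, hw0⟩ := (Submodule.ne_bot_iff W).1 hW.1
  obtain ⟨t, ht, hval, -⟩ := exists_chain_single ρ T.2 x₀ w k
    ⟨s, hs, fun h => hsS ((smul_one_eq_iff hW).1 h)⟩
  have hmem : ∀ x, (Pi.single x₀ w : H ⧸ classStab ρ hW → V) x ∈ blockSum hW x := fun x => by
    rcases eq_or_ne x x₀ with rfl | hne
    · rw [Pi.single_eq_same]; exact le_blockSum_one hW hw
    · rw [Pi.single_eq_of_ne hne]; exact zero_mem _
  have h0 := blockSum_indep hQn hW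
    (chainFun_mem ρ (blockSum hW) t k (fun j _ x v hv => blockSum_smul hW (t j) hv) hmem)
    (by rw [sum_chainFun, hkills t ht, LinearMap.zero_apply]) x₀
  rcases hval with hval | hval <;> rw [hval] at h0
  · exact hw0 h0
  · exact hw0 (neg_eq_zero.1 h0)

/-- Below the first derived term fixing a class the chains vanish on it. -/
theorem chainOp_apply_eq_zero (hQn : Q.Normal) (hW : IrredSub ρ Q W) {k j m : ℕ} (hjm : j + m = k)
    (T : Sylow 2 H)
    (hkills : ∀ t : ℕ → H, (∀ i ≤ k, t i ∈ dser (T : Subgroup H) i) → chainOp ρ t k = 0)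
    (hfix : dser (T : Subgroup H) j ≤ classStab ρ hW)
    (hmove : j = 0 ∨ ¬ dser (T : Subgroup H) (j - 1) ≤ classStab ρ hW)
    {r : ℕ → H} (hr : ∀ i ≤ m, r i ∈ dser (T : Subgroup H) (j + i)) {w : V} (hw : w ∈ W) :
    chainOp ρ r m w = 0 := by
  classical
  haveI := Fintype.ofFinite (H ⧸ classStab ρ hW)
  haveI : Fact (Nat.Prime 2) := ⟨Nat.prime_two⟩
  rcases j with _ | j
  · rw [Nat.zero_add] at hjm
    subst hjm
    rw [hkills r fun i hi => by simpa using hr i hi, LinearMap.zero_apply]
  obtain ⟨s, hs, hsS⟩ := SetLike.not_le_iff_exists.1 (hmove.resolve_left (Nat.succ_ne_zero j))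
  set x₀ : H ⧸ classStab ρ hW := ((1 : H) : H ⧸ classStab ρ hW) with hx₀
  obtain ⟨t, ht, hval, -⟩ := exists_chain_single ρ T.2 x₀ w j
    ⟨s, hs, fun h => hsS ((smul_one_eq_iff hW).1 h)⟩
  have hmem : ∀ x, (Pi.single x₀ w : H ⧸ classStab ρ hW → V) x ∈ blockSum hW x := fun x => by
    rcases eq_or_ne x x₀ with rfl | hne
    · rw [Pi.single_eq_same]; exact le_blockSum_one hW hw
    · rw [Pi.single_eq_of_ne hne]; exact zero_mem _
  set u : ℕ → H := fun l => if l ≤ j then t l else r (l - (j + 1)) with hu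
  have hu' : ∀ i ≤ k, u i ∈ dser (T : Subgroup H) i := by
    intro i hi
    by_cases hij : i ≤ j
    · simp only [hu, if_pos hij]; exact ht i hij
    · simp only [hu, if_neg hij]
      have := hr (i - (j + 1)) (by omega)
      rwa [show j + 1 + (i - (j + 1)) = i by omega] at this
  have h0 := blockSum_indep hQn hW
    (chainFun_mem ρ (blockSum hW) u k (fun l _ x v hv => blockSum_smul hW (u l) hv) hmem)
    (by rw [sum_chainFun, hkills u hu', LinearMap.zero_apply]) x₀
  rw [← hjm, hu, chainFun_add, chainFun_apply_fixed ρ r _ m fun i hi =>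
    (smul_one_eq_iff hW).2 (hfix (dser_le_of_le _ (Nat.le_add_right _ i) (hr i hi)))] at h0
  rcases hval with hval | hval <;> rw [hval] at h0
  · exact h0
  · rw [map_neg, neg_eq_zero] at h0; exact h0

/-- An element trivial on a linked copy acts trivially modulo the scalars. -/
theorem classAction_eq_one_of_trivial (hW : IrredSub ρ Q W) {U : Submodule K V}
    (hU : IrredSub ρ Q U) (hWU : Linked ρ Q W U) {a : H} (ha : a ∈ classStab ρ hW)
    (htriv : ∀ u ∈ U, ρ a u = u) : classAction hW ⟨a, ha⟩ = 1 := by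
  refine MulEquiv.ext fun x => ?_
  induction x using QuotientGroup.induction_on with
  | _ g =>
    rw [classAction_mk, MulAut.one_apply, QuotientGroup.eq]
    set d : Q := (⟨a * g * a⁻¹, HallHigmanB.conj_mem ha.1 g.2⟩ : Q)⁻¹ * g with hd
    refine mem_scalarSub.2 ⟨1, scalar_of_linked hU hW (hWU.symm hW hU) d.2 fun w hw => ?_⟩
    rw [one_smul]
    have hai : ∀ u ∈ U, ρ a⁻¹ u = u := fun u hu => by
      conv_lhs => rw [← htriv u hu]
      exact apply_inv_apply ρ a u
    have h1 : ρ (g : H) w ∈ U := hU.2.1 _ g.2 w hw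
    have h2 : ρ (g : H)⁻¹ (ρ (g : H) w) = w := apply_inv_apply ρ _ w
    show ρ ((a * (g : H) * a⁻¹)⁻¹ * (g : H)) w = w
    rw [mul_inv_rev, mul_inv_rev, inv_inv, map_mul, map_mul, map_mul, Module.End.mul_apply,
      Module.End.mul_apply, Module.End.mul_apply, hai _ h1, h2, htriv w hw]

section image

variable {U : Submodule K V} {L : Subgroup H}

/-- The image of `L` on `U`. -/
noncomputable def imgHom (hL : Invt ρ L U) : L →* (Module.End K U)ˣ :=
  (restrictRep hL).toHomUnits

/-- The representation of the image. -/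
noncomputable def imgRep (hL : Invt ρ L U) : (imgHom hL).range →* Module.End K U :=
  (Units.coeHom _).comp (imgHom hL).range.subtype

theorem imgRep_apply (hL : Invt ρ L U) (l : L) (u : U) :
    (imgRep hL ((imgHom hL).rangeRestrict l) u : V) = ρ (l : H) (u : V) := rfl

theorem imgRep_chainOp (hL : Invt ρ L U) (t : ℕ → L) (u : U) : ∀ i,
    (chainOp (imgRep hL) (fun j => (imgHom hL).rangeRestrict (t j)) i u : V) =
      chainOp ρ (fun j => (t j : H)) i (u : V)
  | 0 => by simp only [chainOp, LinearMap.sub_apply, Module.End.one_apply, Submodule.coe_sub,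
      imgRep_apply]
  | i + 1 => by simp only [chainOp, Module.End.mul_apply, LinearMap.sub_apply, Module.End.one_apply,
      Submodule.coe_sub, imgRep_apply, imgRep_chainOp hL t u i]

theorem rangeRestrict_eq_one_iff (hL : Invt ρ L U) (l : L) :
    (imgHom hL).rangeRestrict l = 1 ↔ ∀ u ∈ U, ρ (l : H) u = u := by
  constructor
  · intro h u hu
    have := imgRep_apply hL l ⟨u, hu⟩
    rw [h, map_one, Module.End.one_apply] at this
    exact this.symm
  · intro h
    exact Subtype.ext (Units.ext (LinearMap.ext fun u => Subtype.ext (h u u.2)))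

/-- The image is an irreducible setting. -/
theorem irr_img {q : ℕ} (hL : Invt ρ L U) (hU : IrredSub ρ Q U) (hQL : Q ≤ L) (hQn : Q.Normal)
    (hQq : IsPGroup q Q) (hq2 : q ≠ 2)
    (hcls : ∀ a ∈ Q, ∀ b ∈ Q, ∀ c ∈ Q, ⁅a, b⁆ * c = c * ⁅a, b⁆) :
    Irr (imgRep hL) ((Q.subgroupOf L).map (imgHom hL).rangeRestrict) q where
  inj := fun a b h => Subtype.ext (Units.ext h)
  normal := Normal.map (by haveI := hQn; infer_instance) _ (imgHom hL).rangeRestrict_surjective
  isPGroup := (hQq.comap_of_injective L.subtype L.subtype_injective).map _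
  ne_two := hq2
  cls := by
    rintro _ ⟨a, ha, rfl⟩ _ ⟨b, hb, rfl⟩ _ ⟨c, hc, rfl⟩
    rw [← map_commutatorElement, ← map_mul, ← map_mul]
    congr 1
    exact Subtype.ext (hcls _ ha _ hb _ hc)
  irred := by
    obtain ⟨v, hv, hv0⟩ := (Submodule.ne_bot_iff U).1 hU.1
    refine ⟨fun h => hv0 ?_, fun g _ w _ => Submodule.mem_top, fun W' _ hW' => ?_⟩
    · have : (⟨v, hv⟩ : U) ∈ (⊤ : Submodule K U) := Submodule.mem_top
      rw [h, Submodule.mem_bot] at this
      exact congrArg Subtype.val this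
    · refine (isIrred_restrictRep hU) W' fun g w hw => ?_
      have := hW' _ (mem_map_of_mem (imgHom hL).rangeRestrict
        (show (⟨(g : H), hQL g.2⟩ : L) ∈ Q.subgroupOf L from g.2)) w hw
      convert this using 1
      exact Subtype.ext rfl

end image

end Cfsg.Agent.Lib.DerivedTwoLength34
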