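import Cfsg.Agent.Lib.HallHigmanFermat.Component

/-!
# A copy of a component invariant under a `2`-group fixing its class
-/

set_option autoImplicit false

namespace Cfsg.Agent.Lib.DerivedTwoLength34

open Module Subgroup Cfsg.Agent.Lib.HallHigmanB Cfsg.Agent.Lib.HallHigmanFermat

variable {K V G : Type*} [Field K] [AddCommGroup V] [Module K V] [Group G] [Finite G]

/-- The elements leaving a subspace invariant. -/
def submoduleStab (ρ : G →* Module.End K V) (U : Submodule K V) : Subgroup G where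
  carrier := {g | ∀ u ∈ U, ρ g u ∈ U}
  one_mem' := fun u hu => by simpa using hu
  mul_mem' := fun {a b} ha hb u hu => by
    rw [map_mul, Module.End.mul_apply]
    exact ha _ (hb u hu)
  inv_mem' := fun {a} ha => by
    have hp : ∀ n : ℕ, ∀ u ∈ U, ρ (a ^ n) u ∈ U := by
      intro n
      induction n with
      | zero => intro u hu; simpa using hu
      | succ n ih =>
        intro u hu
        rw [pow_succ', map_mul, Module.End.mul_apply]
        exact ha _ (ih u hu)
    have h : a⁻¹ = a ^ (orderOf a - 1) := by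
      rw [inv_eq_iff_mul_eq_one, ← pow_succ',
        Nat.sub_add_cancel (orderOf_pos a), pow_orderOf_eq_one]
    intro u hu
    rw [h]
    exact hp _ u hu

variable [IsAlgClosed K] [CharP K 2] [FiniteDimensional K V]
variable {ρ : G →* Module.End K V} {Q : Subgroup G}

/-- A `Q`-intertwiner between subspaces invariant under a `2`-element normalising `Q` commutes
with it. -/
theorem intertwine_of_two_element {U U' : Submodule K V} (hU : IrredSub ρ Q U)
    (hU' : IrredSub ρ Q U') {f : U →ₗ[K] V} (hf0 : f ≠ 0) (hfr : LinearMap.range f ≤ U')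
    (hf : ∀ g ∈ Q, ∀ (w : U) (h : ρ g w ∈ U), f ⟨ρ g w, h⟩ = ρ g (f w)) {r : G}
    (hr : r ∈ normalizer (Q : Set G)) {k : ℕ} (hk : r ^ 2 ^ k = 1)
    (hrU : ∀ u ∈ U, ρ r u ∈ U) (hrU' : ∀ u ∈ U', ρ r u ∈ U') :
    ∀ (w : U) (h : ρ r w ∈ U), f ⟨ρ r w, h⟩ = ρ r (f w) := by
  haveI : Fact (Nat.Prime 2) := ⟨Nat.prime_two⟩
  have hinj := injective_of_intertwine hU f hf0 hf
  have hr' : r⁻¹ ∈ submoduleStab ρ U' := inv_mem hrU'
  let rU : Module.End K U := (ρ r).restrict hrU
  let f' : U →ₗ[K] V := (ρ r⁻¹).comp (f.comp rU)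
  have hf' : ∀ g ∈ Q, ∀ (w : U) (h : ρ g w ∈ U), f' ⟨ρ g w, h⟩ = ρ g (f' w) := by
    intro g hg w h
    have hg' := conj_mem hr hg
    have e : rU ⟨ρ g w, h⟩ = ⟨ρ (r * g * r⁻¹) (rU w : V), hU.2.1 _ hg' _ (rU w).2⟩ := by
      apply Subtype.ext
      show ρ r (ρ g (w : V)) = ρ (r * g * r⁻¹) (ρ r (w : V))
      rw [← Module.End.mul_apply, ← Module.End.mul_apply, ← map_mul, ← map_mul]
      congr 2
      group
    simp only [f', LinearMap.comp_apply]
    rw [e, hf _ hg', ← Module.End.mul_apply, ← Module.End.mul_apply, ← map_mul, ← map_mul]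
    congr 2
    group
  have hne : LinearMap.range f ≠ ⊥ := fun h => hf0 (LinearMap.range_eq_bot.1 h)
  have hrange : LinearMap.range f = U' :=
    (hU'.2.2 _ hfr (invt_range hU.2.1 f hf)).resolve_left hne
  let e : U ≃ₗ[K] U' := (LinearEquiv.ofInjective f hinj).trans (LinearEquiv.ofEq _ _ hrange)
  let B : Module.End K U := e.symm.toLinearMap.comp
    (f'.codRestrict U' fun w => hr' _ (hfr ⟨_, rfl⟩))
  have hfB : ∀ w, f (B w) = f' w := fun w =>
    congrArg Subtype.val (e.apply_symm_apply (⟨f' w, hr' _ (hfr ⟨_, rfl⟩)⟩ : U'))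
  haveI : Nontrivial U := Submodule.nontrivial_iff_ne_bot.2 hU.1
  obtain ⟨c, hc⟩ := Module.End.exists_eigenvalue B
  obtain ⟨v, hv, hv0⟩ := hc.exists_hasEigenvector
  rw [Module.End.mem_eigenspace_iff] at hv
  have hzero : f' - c • f = 0 := by
    by_contra hne'
    refine hv0 (injective_of_intertwine hU (f' - c • f) hne' (fun g hg w h => ?_) ?_)
    · simp [hf' g hg w h, hf g hg w h]
    · simp [← hfB v, hv]
  have hkey : ∀ w, f (rU w) = c • ρ r (f w) := fun w => by
    have h1 : f' w = c • f w := sub_eq_zero.1 (LinearMap.congr_fun hzero w :)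
    calc f (rU w) = ρ r (ρ r⁻¹ (f (rU w))) := (apply_apply_inv ρ r _).symm
      _ = ρ r (c • f w) := congrArg (ρ r) h1
      _ = c • ρ r (f w) := map_smul _ _ _
  have hpow : ∀ (n : ℕ) (w : U), f ((rU ^ n) w) = c ^ n • ρ (r ^ n) (f w) := by
    intro n
    induction n with
    | zero => intro w; simp
    | succ n ih =>
      intro w
      rw [pow_succ', Module.End.mul_apply, hkey, ih, map_smul, smul_smul, ← Module.End.mul_apply,
        ← map_mul, ← pow_succ', ← pow_succ']
  have hrUn : ∀ (n : ℕ) (w : U), (((rU ^ n) w : U) : V) = ρ (r ^ n) w := by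
    intro n
    induction n with
    | zero => intro w; simp
    | succ n ih =>
      intro w
      rw [pow_succ', Module.End.mul_apply, pow_succ', map_mul, Module.End.mul_apply, ← ih w]
      rfl
  have hc1 : c = 1 := by
    obtain ⟨w, hw⟩ : ∃ w, f w ≠ 0 := by
      by_contra! h
      exact hf0 (LinearMap.ext h)
    have h1 := hpow (2 ^ k) w
    rw [show (rU ^ 2 ^ k) w = w from Subtype.ext (by rw [hrUn, hk, map_one]; rfl), hk, map_one,
      Module.End.one_apply] at h1
    have h2 : (c ^ 2 ^ k - 1) • f w = 0 := by rw [sub_smul, ← h1, one_smul, sub_self]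
    have h3 : c ^ 2 ^ k = 1 := sub_eq_zero.1 ((smul_eq_zero.1 h2).resolve_right hw)
    have h4 : (c - 1) ^ 2 ^ k = 0 := by rw [sub_pow_char_pow, h3, one_pow, sub_self]
    exact sub_eq_zero.1 (eq_zero_of_pow_eq_zero h4)
  intro w h
  have h1 := hkey w
  rw [hc1, one_smul] at h1
  exact h1

/-- **An invariant copy.** A `2`-group fixing the class of `W` leaves a member of it invariant. -/
theorem exists_invariant_copy_group {W : Submodule K V} (hW : IrredSub ρ Q W) (R : Subgroup G)
    (hR : IsPGroup 2 R) (hRS : R ≤ classStab ρ hW) :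
    ∃ U, IrredSub ρ Q U ∧ Linked ρ Q W U ∧ ∀ r ∈ R, ∀ u ∈ U, ρ r u ∈ U := by
  haveI : Fact (Nat.Prime 2) := ⟨Nat.prime_two⟩
  suffices h : ∀ (n : ℕ) (R : Subgroup G), Nat.card R ≤ n → IsPGroup 2 R → R ≤ classStab ρ hW →
      ∃ U, IrredSub ρ Q U ∧ Linked ρ Q W U ∧ ∀ r ∈ R, ∀ u ∈ U, ρ r u ∈ U from
    h _ R le_rfl hR hRS
  intro n
  induction n with
  | zero => exact fun R hn => absurd hn (Nat.not_le.2 Nat.card_pos)
  | succ n ih =>
    intro R hn hR hRS
    by_cases hbot : R = ⊥
    · refine ⟨W, hW, Linked.refl hW, fun r hr u hu => ?_⟩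
      rw [hbot, mem_bot] at hr
      simpa [hr] using hu
    haveI : Group.IsNilpotent R := hR.isNilpotent
    haveI : Nontrivial R := (Subgroup.nontrivial_iff_ne_bot R).2 hbot
    obtain ⟨M, hM⟩ := IsCoatomic.exists_coatom (Subgroup R)
    haveI : M.Normal := Subgroup.NormalizerCondition.normal_of_coatom M Group.normalizerCondition_of_isNilpotent hM
    obtain ⟨t, ht⟩ : ∃ t : R, t ∉ M := by
      by_contra! h
      exact hM.1 (eq_top_iff.2 fun x _ => h x)
    set R₀ := M.map R.subtype with hR₀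
    have hle : R₀ ≤ R := map_subtype_le M
    have hlt : R₀ < R := by
      refine lt_of_le_of_ne hle fun h => ht ?_
      have h1 : (t : G) ∈ R₀ := h.symm ▸ t.2
      obtain ⟨y, hy, hyt⟩ := h1
      rwa [← Subtype.ext hyt]
    have hcard : Nat.card R₀ < Nat.card R :=
      Set.ncard_lt_ncard hlt (Set.toFinite _) |> fun h => by simpa [← Nat.card_coe_set_eq] using h
    obtain ⟨U, hU, hWU, hinv⟩ :=
      ih R₀ (by omega) (hR.to_le hle) (hle.trans hRS)
    have htN : (t : G) ∈ normalizer (Q : Set G) := (hRS t.2).1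
    have hlink : Linked ρ Q U (U.map (ρ t)) :=
      Linked.trans hU hW (hWU.symm hW hU) (Linked.trans hW (irredSub_map htN hW) (hRS t.2).2
        (hWU.map htN hW.2.1))
    -- `U` and its translate as modules for `Q ⊔ R₀`
    set Q' := Q ⊔ R₀ with hQ'
    have hQ'U : Invt ρ Q' U := fun g hg => by
      have h : Q' ≤ submoduleStab ρ U :=
        sup_le (fun g hg => hU.2.1 g hg) (fun g hg => hinv g hg)
      exact h hg
    have hU'' : IrredSub ρ Q' U :=
      ⟨hU.1, hQ'U, fun W' hW' hi => hU.2.2 W' hW' fun g hg => hi g (mem_sup_left hg)⟩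
    have ht₀ : ∀ x ∈ R₀, (t : G) * x * (t : G)⁻¹ ∈ R₀ ∧ (t : G)⁻¹ * x * t ∈ R₀ := by
      rintro _ ⟨y, hy, rfl⟩
      exact ⟨⟨t * y * t⁻¹, Subgroup.Normal.conj_mem inferInstance y hy t, rfl⟩,
        ⟨t⁻¹ * y * t, Subgroup.Normal.conj_mem' inferInstance y hy t, rfl⟩⟩
    have htQ' : (t : G) ∈ normalizer (Q' : Set G) := by
      have h1 : ∀ s : G, s ∈ normalizer (Q : Set G) → (∀ x ∈ R₀, s * x * s⁻¹ ∈ R₀) →
          ∀ x ∈ Q', s * x * s⁻¹ ∈ Q' := by
        intro s hs hs0 x hx
        have h2 : Q' ≤ Q'.comap (MulAut.conj s).toMonoidHom :=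
          sup_le (fun g hg => mem_sup_left (conj_mem hs hg))
            (fun g hg => mem_sup_right (hs0 g hg))
        exact h2 hx
      refine mem_normalizer_iff.2 fun x => ⟨h1 _ htN (fun x hx => (ht₀ x hx).1) x, fun hx => ?_⟩
      have h2 := h1 _ (inv_mem htN) (fun x hx => by simpa using (ht₀ x hx).2) _ hx
      simpa [mul_assoc] using h2
    have hU't := invt_map htQ' hQ'U
    obtain ⟨f, hf0, hfr, hf⟩ := hlink
    have hlink' : Linked ρ Q' U (U.map (ρ t)) := by
      refine ⟨f, hf0, hfr, fun g hg w _ => ?_⟩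
      let S : Subgroup G :=
        { carrier := {g | g ∈ Q' ∧ ∀ (w : U) (h : ρ g w ∈ U), f ⟨ρ g w, h⟩ = ρ g (f w)}
          one_mem' := ⟨one_mem _, fun w h => by simp⟩
          mul_mem' := fun {a b} ha hb => ⟨mul_mem ha.1 hb.1, fun w h => by
            have e : (⟨ρ (a * b) w, h⟩ : U) = ⟨ρ a ((⟨ρ b w, hQ'U b hb.1 w w.2⟩ : U) : V),
                hQ'U a ha.1 _ (hQ'U b hb.1 w w.2)⟩ :=
              Subtype.ext (by simp [map_mul])
            rw [e, ha.2, hb.2, map_mul, Module.End.mul_apply]⟩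
          inv_mem' := fun {a} ha => ⟨inv_mem ha.1, fun w h => by
            have h1 := ha.2 ⟨ρ a⁻¹ w, h⟩ (by rw [apply_apply_inv]; exact w.2)
            simp only [apply_apply_inv, Subtype.coe_eta] at h1
            rw [h1, apply_inv_apply]⟩ }
      have hsup : Q' ≤ S := by
        refine sup_le (fun g hg => ⟨mem_sup_left hg, hf g hg⟩) fun r hr => ⟨mem_sup_right hr, ?_⟩
        obtain ⟨k, hk⟩ := hR ⟨r, hle hr⟩
        exact intertwine_of_two_element hU (irredSub_map htN hU) hf0 hfr hf (hRS (hle hr)).1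
          (congrArg Subtype.val hk :) (hinv r hr) (hU't r (mem_sup_right hr))
      exact (hsup hg).2 w _
    obtain ⟨U', hU', ⟨φ, hφ0, hφr, hφ⟩, htU'⟩ := exists_invariant_copy hU'' htQ' hlink'
    have hφQ : ∀ g ∈ Q, ∀ (w : U) (h : ρ g w ∈ U), φ ⟨ρ g w, h⟩ = ρ g (φ w) :=
      fun g hg => hφ g (mem_sup_left hg)
    have hφU' : LinearMap.range φ = U' :=
      (hU'.2.2 _ hφr (invt_range hQ'U φ hφ)).resolve_left
        fun h => hφ0 (LinearMap.range_eq_bot.1 h)
    have hU'irr : IrredSub ρ Q U' := by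
      refine ⟨hU'.1, fun g hg => hU'.2.1 g (mem_sup_left hg), fun W' hW' hi => ?_⟩
      have h1 : Invt ρ Q ((W'.comap φ).map U.subtype) := by
        rintro g hg _ ⟨w, hw, rfl⟩
        exact ⟨⟨ρ g w, hU.2.1 g hg w w.2⟩, by
          show φ _ ∈ W'
          rw [hφQ g hg w]
          exact hi g hg _ hw, rfl⟩
      rcases hU.2.2 _ (Submodule.map_subtype_le _ _) h1 with h | h
      · left
        rw [eq_bot_iff]
        intro v hv
        obtain ⟨w, rfl⟩ := hφU'.ge (hW' hv)
        have h2 : (w : V) ∈ (W'.comap φ).map U.subtype := ⟨w, hv, rfl⟩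
        rw [h, Submodule.mem_bot] at h2
        simp [show w = 0 from Subtype.ext h2]
      · right
        refine le_antisymm hW' fun v hv => ?_
        obtain ⟨w, rfl⟩ := hφU'.ge hv
        have h2 : (w : V) ∈ (W'.comap φ).map U.subtype := h.symm ▸ w.2
        obtain ⟨w', hw', he⟩ := h2
        rw [← Subtype.ext he]
        exact hw'
    refine ⟨U', hU'irr, Linked.trans hW hU hWU ⟨φ, hφ0, hφr, hφQ⟩, ?_⟩
    have hgen : R ≤ submoduleStab ρ U' := by
      have htop : M ⊔ zpowers t = ⊤ :=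
        hM.2 _ (left_lt_sup.2 fun h => ht (h (mem_zpowers t)))
      have h3 := congrArg (Subgroup.map R.subtype) htop
      rw [Subgroup.map_sup, ← MonoidHom.range_eq_map, Subgroup.range_subtype,
        MonoidHom.map_zpowers] at h3
      rw [← h3]
      exact sup_le (fun g hg => hU'.2.1 g (mem_sup_right hg))
        (zpowers_le.2 htU')
    exact fun r hr => hgen hr

end Cfsg.Agent.Lib.DerivedTwoLength34
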