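import Cfsg.Agent.Lib.ExpTwoLength71.Basic

/-!
# Derived series of subgroups, iterated commutators and operator chains

The basic notions for the bound of the `2`-length by the derived length of a Sylow `2`-subgroup.
-/

set_option autoImplicit false

namespace Cfsg.Agent.Lib.DerivedTwoLength34

open Subgroup Cfsg
open scoped commutatorElement

universe u

variable {G H : Type*} [Group G] [Group H]

/-- The derived series of a subgroup, inside the whole group. -/
def dser (S : Subgroup G) : ℕ → Subgroup G
  | 0 => S
  | i + 1 => ⁅dser S i, dser S i⁆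

/-- The bound at derived length `k`. -/
def LengthBound (k : ℕ) : Prop :=
  ∀ (G : Type u) [Group G] [Finite G] [Group.IsSolvable G],
    (∀ P : Sylow 2 G, dser (P : Subgroup G) k = ⊥) → PLengthLE 2 k G

/-- The iterated commutator `⁅t i, ..., ⁅t 1, ⁅t 0, a⁆⁆⁆`. -/
def chainElt (t : ℕ → G) (a : G) : ℕ → G
  | 0 => ⁅t 0, a⁆
  | i + 1 => ⁅t (i + 1), chainElt t a i⁆

section

variable {K V : Type*} [CommRing K] [AddCommGroup V] [Module K V]

/-- The operator `(t i - 1) * ... * (t 1 - 1) * (t 0 - 1)`. -/
def chainOp (ρ : G →* Module.End K V) (t : ℕ → G) : ℕ → Module.End K V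
  | 0 => ρ (t 0) - 1
  | i + 1 => (ρ (t (i + 1)) - 1) * chainOp ρ t i

/-- The module conditions left by a Sylow `2`-subgroup of derived length at most `k + 1`. -/
structure Hyp (ρ : G →* Module.End K V) (k : ℕ) : Prop where
  dser_eq_bot : ∀ T : Sylow 2 G, dser (T : Subgroup G) (k + 1) = ⊥
  kills : ∀ (T : Sylow 2 G) (t : ℕ → G), (∀ i ≤ k, t i ∈ dser (T : Subgroup G) i) →
    chainOp ρ t k = 0
  quad : ∀ T : Sylow 2 G, ∀ a ∈ dser (T : Subgroup G) k, ∀ b ∈ dser (T : Subgroup G) k,
    (ρ a - 1) * (ρ b - 1) = 0

/-- Generates the defining equations of `chainOp` here, once for all importing files. -/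
theorem chainOp_unfold (ρ : G →* Module.End K V) (t : ℕ → G) (i : ℕ) :
    chainOp ρ t i = match i with
      | 0 => ρ (t 0) - 1
      | j + 1 => (ρ (t (j + 1)) - 1) * chainOp ρ t j := by
  cases i <;> rw [chainOp]

theorem chainOp_defn (ρ : G →* Module.End K V) (t : ℕ → G) (i : ℕ) :
    chainOp ρ t i = chainOp ρ t i := by
  unfold chainOp
  rfl

end

theorem dser_antitone (S : Subgroup G) (i : ℕ) : dser S (i + 1) ≤ dser S i := by
  induction i with
  | zero =>
    refine commutator_le.2 fun a ha b hb => ?_
    exact mul_mem (mul_mem (mul_mem ha hb) (inv_mem ha)) (inv_mem hb)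
  | succ i ih => exact commutator_mono ih ih

theorem dser_le_of_le (S : Subgroup G) {i j : ℕ} (h : i ≤ j) : dser S j ≤ dser S i := by
  induction j, h using Nat.le_induction with
  | base => exact le_rfl
  | succ j _ ih => exact (dser_antitone S j).trans ih

theorem dser_le (S : Subgroup G) (i : ℕ) : dser S i ≤ S := dser_le_of_le S (Nat.zero_le i)

theorem map_dser (f : G →* H) (S : Subgroup G) (i : ℕ) :
    (dser S i).map f = dser (S.map f) i := by
  induction i with
  | zero => rfl
  | succ i ih => rw [dser, dser, map_commutator, ih]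

theorem dser_mono {S R : Subgroup G} (h : S ≤ R) (i : ℕ) : dser S i ≤ dser R i := by
  induction i with
  | zero => exact h
  | succ i ih => exact commutator_mono ih ih

/-- Whatever normalises `S` normalises its derived series. -/
theorem conj_mem_dser {S : Subgroup G} {g : G} (hg : g ∈ normalizer (S : Set G)) (i : ℕ) {x : G}
    (hx : x ∈ dser S i) : g * x * g⁻¹ ∈ dser S i := by
  have h : S.map (MulAut.conj g).toMonoidHom = S := by
    refine le_antisymm ?_ fun y hy => ⟨g⁻¹ * y * g, ?_, by simp [mul_assoc]⟩
    · rintro _ ⟨y, hy, rfl⟩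
      exact (mem_normalizer_iff.1 hg y).1 hy
    · rw [SetLike.mem_coe, mem_normalizer_iff.1 hg]
      simpa [mul_assoc] using hy
  have h1 := mem_map_of_mem (MulAut.conj g).toMonoidHom hx
  rw [map_dser, h] at h1
  exact h1

theorem conj_mem_dser_of_mem {S : Subgroup G} {g : G} (hg : g ∈ S) (i : ℕ) {x : G}
    (hx : x ∈ dser S i) : g * x * g⁻¹ ∈ dser S i :=
  conj_mem_dser (le_normalizer hg) i hx

theorem map_subtype_derivedSeries (S : Subgroup G) (i : ℕ) :
    (derivedSeries S i).map S.subtype = dser S i := by
  induction i with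
  | zero => rw [derivedSeries_zero, ← MonoidHom.range_eq_map, range_subtype]; rfl
  | succ i ih => rw [derivedSeries_succ, map_commutator, ih]; rfl

theorem map_chainElt (f : G →* H) (t : ℕ → G) (a : G) (i : ℕ) :
    f (chainElt t a i) = chainElt (fun j => f (t j)) (f a) i := by
  induction i with
  | zero => exact map_commutatorElement f _ _
  | succ i ih => rw [chainElt, chainElt, map_commutatorElement, ih]

/-- Iterated commutators descend the derived series. -/
theorem chainElt_mem {S : Subgroup G} {t : ℕ → G} {a : G} (ha : a ∈ S) :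
    ∀ i, (∀ j ≤ i, t j ∈ dser S j) → chainElt t a i ∈ dser S (i + 1)
  | 0, ht => commutator_mem_commutator (ht 0 le_rfl) ha
  | i + 1, ht => commutator_mem_commutator (ht (i + 1) le_rfl)
      (chainElt_mem ha i fun j hj => ht j (by omega))

end Cfsg.Agent.Lib.DerivedTwoLength34
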