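import Cfsg.Agent.Lib.DerivedTwoLength34.Irr
import Cfsg.Agent.Lib.DerTwoLength71.Free
import Cfsg.Agent.Lib.Coprime.Basic

/-!
# Commuting involutions on an irreducible module of a class two group

The sum of an elementary abelian `2`-group does not vanish, so an elementary abelian normal subgroup
of a `2`-group killed by the operator chains has trivial iterated commutators.
-/

set_option autoImplicit false
set_option linter.unusedSectionVars false

namespace Cfsg.Agent.Lib.DerivedTwoLength34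

open Subgroup Cfsg.Agent.Lib.HallHigmanB Cfsg.Agent.Lib.DerTwoLength71
open scoped commutatorElement

variable {K V G : Type*} [Field K] [IsAlgClosed K] [CharP K 2] [AddCommGroup V] [Module K V]
  [FiniteDimensional K V] [Group G] [Finite G] {ρ : G →* Module.End K V} {Q : Subgroup G} {q : ℕ}

/-- An element of `Q` commuting with `Q` is a scalar. -/
theorem Irr.scalar_of_commute (h : Irr ρ Q q) {z : G} (hz : ∀ u ∈ Q, Commute z u) :
    ∃ c : K, ∀ v : V, ρ z v = c • v := by
  have : Nontrivial (⊤ : Submodule K V) := Submodule.nontrivial_iff_ne_bot.2 h.irred.1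
  obtain ⟨c, hc⟩ := (isIrred_restrictRep h.irred).exists_scalar
    ((ρ z).restrict (p := ⊤) (q := ⊤) fun _ _ => Submodule.mem_top) fun g => by
      refine LinearMap.ext fun w => Subtype.ext ?_
      show ρ z (ρ (g : G) (w : V)) = ρ (g : G) (ρ z (w : V))
      rw [← Module.End.mul_apply, ← map_mul, (hz _ g.2).eq, map_mul, Module.End.mul_apply]
  exact ⟨c, fun v => congrArg Subtype.val (LinearMap.congr_fun hc ⟨v, Submodule.mem_top⟩)⟩

theorem Irr.eq_one_of_trivOn (h : Irr ρ Q q) {g : G} (hg : TrivOn ρ (⊤ : Submodule K V) g) :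
    g = 1 :=
  h.inj (LinearMap.ext fun v => by rw [hg v Submodule.mem_top, map_one, Module.End.one_apply])

/-- The sum of a group of commuting involutions does not vanish. -/
theorem Irr.sumOf_ne_zero [hq : Fact q.Prime] (h : Irr ρ Q q) (E : Subgroup G)
    (hc : ∀ a ∈ E, ∀ b ∈ E, Commute a b) (h2 : ∀ a ∈ E, a ^ 2 = 1) :
    sumOf (ρ := ρ) (E : Set G) ≠ 0 := by
  have hdata : FreeData ρ (⊤ : Submodule K V) Q := by
    refine ⟨h.irred.1, fun _ _ _ _ => Submodule.mem_top, ?_, h.cls, fun x hx hxc => ?_⟩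
    · obtain ⟨k, hk⟩ := IsPGroup.iff_card.1 h.isPGroup
      rw [hk]
      exact (hq.out.odd_of_ne_two h.ne_two).pow
    · obtain ⟨c, hc'⟩ := h.scalar_of_commute fun w hw =>
        commutatorElement_eq_one_iff_commute.1 (h.eq_one_of_trivOn (hxc w hw))
      exact ⟨c, fun v _ => hc' v⟩
  have hacts : ActsFree ρ (⊤ : Submodule K V) Q E := by
    refine ⟨fun g _ => ?_, fun _ _ _ _ => Submodule.mem_top,
      fun e he => by rw [← pow_two]; exact h2 e he, fun a ha b hb => (hc a ha b hb).eq,
      fun e he he1 => ?_⟩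
    · rw [@normalizer_eq_top _ _ Q h.normal]
      exact mem_top g
    · by_contra hall
      push Not at hall
      refine he1 (h.eq_one_of_commute (h2 e he) fun u hu => ?_)
      exact commutatorElement_eq_one_iff_commute.1 (h.eq_one_of_trivOn (hall u hu))
  obtain ⟨v, -, hv⟩ := DerTwoLength71.sum_ne_zero _ le_rfl hdata hacts
  exact fun h0 => hv (by rw [h0, LinearMap.zero_apply])

/-- The sum of a group of commuting involutions does not vanish. -/
theorem Irr.sum_ne_zero [Fact q.Prime] (h : Irr ρ Q q) (E : Subgroup G) [Fintype E]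
    (hc : ∀ a ∈ E, ∀ b ∈ E, Commute a b) (h2 : ∀ a ∈ E, a ^ 2 = 1) :
    (∑ e : E, ρ (e : G)) ≠ 0 := by
  classical
  have key : sumOf (ρ := ρ) (E : Set G) = ∑ e : E, ρ (e : G) :=
    Finset.sum_subtype _ (fun x => by simp) fun g => ρ g
  rw [← key]
  exact h.sumOf_ne_zero E hc h2

/-- The commutators of `E` along the derived series. -/
def commSer (R E : Subgroup G) : ℕ → Subgroup G
  | 0 => E
  | i + 1 => ⁅dser R i, commSer R E i⁆

section commSer

variable {R E : Subgroup G}

theorem conj_mem_commSer (hE : ∀ r ∈ R, ∀ e ∈ E, r * e * r⁻¹ ∈ E) {r : G} (hr : r ∈ R) :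
    ∀ i, (commSer R E i).map (MulAut.conj r).toMonoidHom ≤ commSer R E i
  | 0 => by
    rintro _ ⟨e, he, rfl⟩
    exact hE r hr e he
  | i + 1 => by
    rw [commSer, map_commutator]
    refine commutator_mono ?_ (conj_mem_commSer hE hr i)
    rintro _ ⟨a, ha, rfl⟩
    exact conj_mem_dser_of_mem hr i ha

theorem commSer_succ_le (hE : ∀ r ∈ R, ∀ e ∈ E, r * e * r⁻¹ ∈ E) (i : ℕ) :
    commSer R E (i + 1) ≤ commSer R E i :=
  commutator_le.2 fun a ha d hd =>
    mul_mem (conj_mem_commSer hE (dser_le R i ha) i ⟨d, hd, rfl⟩) (inv_mem hd)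

theorem commSer_le_of_le (hE : ∀ r ∈ R, ∀ e ∈ E, r * e * r⁻¹ ∈ E) {i j : ℕ} (hij : i ≤ j) :
    commSer R E j ≤ commSer R E i := by
  induction j, hij using Nat.le_induction with
  | base => exact le_rfl
  | succ j _ ih => exact (commSer_succ_le hE j).trans ih

theorem commSer_le_dser (hER : E ≤ R) : ∀ i, commSer R E i ≤ dser R i
  | 0 => hER
  | i + 1 => commutator_mono le_rfl (commSer_le_dser hER i)

theorem chainElt_mem_commSer {t : ℕ → G} {c : G} (hc : c ∈ E) :
    ∀ i, (∀ j ≤ i, t j ∈ dser R j) → chainElt t c i ∈ commSer R E (i + 1)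
  | 0, ht => commutator_mem_commutator (ht 0 le_rfl) hc
  | i + 1, ht => commutator_mem_commutator (ht (i + 1) le_rfl)
      (chainElt_mem_commSer hc i fun j hj => ht j (by omega))

theorem exists_mem_not_mem_commSer (hR : IsPGroup 2 R) (hER : E ≤ R)
    (hE : ∀ r ∈ R, ∀ e ∈ E, r * e * r⁻¹ ∈ E) {i : ℕ} (hne : commSer R E i ≠ ⊥) :
    ∃ e ∈ commSer R E i, e ∉ commSer R E (i + 1) := by
  have hle : commSer R E i ≤ R := (commSer_le_dser hER i).trans (dser_le R i)
  have hn : R ≤ normalizer (commSer R E i : Set G) := by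
    intro r hr
    rw [mem_normalizer_iff]
    refine fun x => ⟨fun hx => conj_mem_commSer hE hr i ⟨x, hx, rfl⟩, fun hx => ?_⟩
    have h1 := conj_mem_commSer hE (inv_mem hr) i ⟨_, hx, rfl⟩
    simpa [mul_assoc] using h1
  have hlt := Coprime.commutator_lt_of_isPGroup (hR.to_le hle) hR hn hne
  have hlt' : commSer R E (i + 1) < commSer R E i := by
    refine lt_of_le_of_lt ?_ hlt
    rw [commSer, commutator_comm (commSer R E i) R]
    exact commutator_mono (dser_le R i) le_rfl
  exact SetLike.exists_of_lt hlt'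

/-- The subgroup generated by the last `j` of `e 0, …, e n`. -/
def tailGroup (e : ℕ → G) (n : ℕ) : ℕ → Subgroup G
  | 0 => ⊥
  | j + 1 => tailGroup e n j ⊔ zpowers (e (n - j))

end commSer

/-- **Elementary abelian normal subgroups have short chains.** -/
theorem Irr.chain_eq_one [Fact q.Prime] (h : Irr ρ Q q) {R : Subgroup G} (hR : IsPGroup 2 R)
    {E : Subgroup G} (hER : E ≤ R) (hE : ∀ r ∈ R, ∀ e ∈ E, r * e * r⁻¹ ∈ E)
    (hc : ∀ a ∈ E, ∀ b ∈ E, Commute a b) (h2 : ∀ a ∈ E, a ^ 2 = 1) {n : ℕ}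
    (hkills : ∀ t : ℕ → G, (∀ i ≤ n, t i ∈ dser R i) → chainOp ρ t n = 0) {c : G} (hcE : c ∈ E)
    {t : ℕ → G} (ht : ∀ i < n, t i ∈ dser R i) : n = 0 ∨ chainElt t c (n - 1) = 1 := by
  classical
  rcases n with _ | m
  · exact Or.inl rfl
  refine Or.inr ?_
  by_contra hne
  have hmem : chainElt t c m ∈ commSer R E (m + 1) :=
    chainElt_mem_commSer hcE m fun j hj => ht j (by omega)
  have hbot : ∀ i, i ≤ m + 1 → commSer R E i ≠ ⊥ := fun i hi h0 => hne (by
    have h1 := commSer_le_of_le hE hi hmem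
    rwa [h0, mem_bot] at h1)
  have hex : ∀ i, ∃ e, i ≤ m + 1 → e ∈ commSer R E i ∧ e ∉ commSer R E (i + 1) := fun i => by
    by_cases hi : i ≤ m + 1
    · obtain ⟨e, he1, he2⟩ := exists_mem_not_mem_commSer hR hER hE (hbot i hi)
      exact ⟨e, fun _ => ⟨he1, he2⟩⟩
    · exact ⟨1, fun h => absurd h hi⟩
  choose e he using hex
  have hkill := hkills e fun i hi => commSer_le_dser hER i (he i hi).1
  have hEle : ∀ i, commSer R E i ≤ E := fun i => commSer_le_of_le hE (Nat.zero_le i)
  have hT : ∀ j, j ≤ m + 2 → tailGroup e (m + 1) j ≤ commSer R E (m + 2 - j) := by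
    intro j
    induction j with
    | zero => exact fun _ => bot_le
    | succ j ih =>
      intro hj
      refine sup_le ((ih (by omega)).trans (commSer_le_of_le hE (by omega))) ?_
      rw [zpowers_le, show m + 2 - (j + 1) = m + 1 - j by omega]
      exact (he _ (by omega)).1
  have hTE : ∀ j, j ≤ m + 2 → tailGroup e (m + 1) j ≤ E := fun j hj => (hT j hj).trans (hEle _)
  have hstep : ∀ j, j ≤ m + 1 → sumOf (ρ := ρ) (tailGroup e (m + 1) (j + 1) : Set G) =
      sumOf (ρ := ρ) (tailGroup e (m + 1) j : Set G) * (ρ (e (m + 1 - j)) - 1) := by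
    intro j hj
    obtain ⟨huD, hu⟩ := he (m + 1 - j) (by omega)
    set u := e (m + 1 - j) with hudef
    have huE : u ∈ E := hEle _ huD
    have huu : u * u = 1 := by rw [← pow_two]; exact h2 u huE
    have hnotin : u ∉ tailGroup e (m + 1) j := fun h0 => hu (by
      rw [show m + 1 - j + 1 = m + 2 - j by omega]
      exact hT j (by omega) h0)
    refine sumOf_pair (mem_sup_right (mem_zpowers u)) le_sup_left hnotin (fun x hx => ?_) huu
    have hn : zpowers u ≤ normalizer (tailGroup e (m + 1) j : Set G) := by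
      rw [zpowers_le, mem_normalizer_iff]
      intro y
      refine ⟨fun hy => ?_, fun hy => ?_⟩
      · rwa [(hc u huE y (hTE j (by omega) hy)).eq, mul_inv_cancel_right]
      · have h3 := (hc u huE _ (hTE j (by omega) hy)).eq
        rw [inv_mul_cancel_right, mul_left_cancel_iff] at h3
        rwa [h3] at hy
    have hx' : x ∈ ((tailGroup e (m + 1) j ⊔ zpowers u : Subgroup G) : Set G) := hx
    rw [coe_mul_of_right_le_normalizer_left _ _ hn] at hx'
    obtain ⟨a, ha, b, hb, rfl⟩ := hx'
    obtain ⟨k, rfl⟩ := hb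
    have hu2 : u ^ (2 : ℤ) = 1 := by rw [zpow_two]; exact huu
    rcases Int.even_or_odd k with ⟨l, rfl⟩ | ⟨l, rfl⟩
    · left
      simp only [← two_mul, zpow_mul, hu2, one_zpow, mul_one]
      exact ha
    · right
      simp only [zpow_add, zpow_mul, hu2, one_zpow, one_mul, zpow_one, mul_assoc, huu, mul_one]
      exact ha
  have hinv : ∀ j, j ≤ m + 1 → sumOf (ρ := ρ) (tailGroup e (m + 1) j : Set G) *
      chainOp ρ e (m + 1 - j) = chainOp ρ e (m + 1) := by
    intro j
    induction j with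
    | zero =>
      intro _
      unfold sumOf
      rw [show (Set.toFinite ((tailGroup e (m + 1) 0 : Subgroup G) : Set G)).toFinset = {1} by
        ext x; simp [tailGroup], Finset.sum_singleton, map_one, one_mul, Nat.sub_zero]
    | succ j ih =>
      intro hj
      have h3 := ih (by omega)
      rw [show m + 1 - j = (m + 1 - (j + 1)) + 1 by omega, chainOp, ← mul_assoc,
        show (m + 1 - (j + 1)) + 1 = m + 1 - j by omega, ← hstep j (by omega)] at h3
      exact h3
  have hfin := hinv (m + 1) le_rfl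
  rw [Nat.sub_self, hkill, chainOp] at hfin
  refine h.sumOf_ne_zero (tailGroup e (m + 1) (m + 2))
    (fun a ha b hb => hc a (hTE _ le_rfl ha) b (hTE _ le_rfl hb))
    (fun a ha => h2 a (hTE _ le_rfl ha)) ?_
  have h4 := hstep (m + 1) le_rfl
  rw [Nat.sub_self] at h4
  exact h4.trans hfin

end Cfsg.Agent.Lib.DerivedTwoLength34
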