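import Cfsg.Agent.Lib.DerivedTwoLength34.Component
import Cfsg.Agent.Lib.DerivedTwoLength34.Copy
import Cfsg.Agent.Lib.DerivedTwoLength34.Assemble
import Cfsg.Agent.Lib.DerivedTwoLength34.Free

/-!
# The `2`-length is at most the derived length of a Sylow `2`-subgroup

The normal closure of the last derived terms gives a normal elementary abelian `2`-subgroup modulo
`O_{2'}` which is killed by the chains of one step less.
-/

set_option autoImplicit false
set_option linter.unusedSectionVars false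
set_option linter.style.haveILetI false

namespace Cfsg.Agent.Lib.DerivedTwoLength34

open Module Subgroup Cfsg Cfsg.Agent.Lib.HallHigmanB Cfsg.Agent.Lib.HallHigmanFermat
open Cfsg.Agent.Lib.PSolvable
open scoped commutatorElement

universe u

variable {K V H : Type*} [Field K] [IsAlgClosed K] [CharP K 2] [AddCommGroup V] [Module K V]
  [FiniteDimensional K V] [Group H] [Finite H] {ρ : H →* Module.End K V} {k : ℕ}

theorem Hyp.sq (hyp : Hyp ρ k) (hρ : Function.Injective ρ) (T : Sylow 2 H) {a : H}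
    (ha : a ∈ dser (T : Subgroup H) k) : a ^ 2 = 1 := by
  refine hρ (LinearMap.ext fun v => ?_)
  have h := LinearMap.congr_fun (hyp.quad T a ha a ha) v
  simp only [Module.End.mul_apply, LinearMap.sub_apply, Module.End.one_apply, map_sub,
    LinearMap.zero_apply] at h
  rw [map_pow, pow_two, Module.End.mul_apply, map_one, Module.End.one_apply]
  have h2 : ∀ x : V, x + x = 0 := fun x => by
    rw [← two_smul K x, CharTwo.two_eq_zero, zero_smul]
  have e : ρ a (ρ a v) - v = ρ a (ρ a v) - ρ a v - (ρ a v - v) + (ρ a v + ρ a v - (v + v)) := by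
    abel
  rw [h, h2, h2, sub_zero, add_zero, sub_eq_zero] at e
  exact e

theorem Hyp.commute (hyp : Hyp ρ k) (T : Sylow 2 H) {a b : H}
    (ha : a ∈ dser (T : Subgroup H) k) (hb : b ∈ dser (T : Subgroup H) k) : Commute a b := by
  rw [← commutatorElement_eq_one_iff_commute, ← mem_bot, ← hyp.dser_eq_bot T]
  exact commutator_mem_commutator ha hb

/-- The normal closure of all the last derived terms. -/
def lastClosure (k : ℕ) (H : Type*) [Group H] : Subgroup H :=
  normalClosure (⋃ T : Sylow 2 H, (dser (T : Subgroup H) k : Set H))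

instance lastClosure_normal (k : ℕ) (H : Type*) [Group H] : (lastClosure k H).Normal :=
  normalClosure_normal

theorem dser_le_lastClosure (T : Sylow 2 H) (k : ℕ) :
    dser (T : Subgroup H) k ≤ lastClosure k H :=
  fun _ hx => subset_normalClosure (Set.mem_iUnion.2 ⟨T, hx⟩)

theorem lastClosure_le_classStab (hyp : Hyp ρ k) {Q : Subgroup H} {W : Submodule K V}
    (hQn : Q.Normal) (hW : IrredSub ρ Q W) : lastClosure k H ≤ classStab ρ hW := by
  refine (closure_le _).2 fun x hx => ?_
  obtain ⟨a, ha, hax⟩ := Group.mem_conjugatesOfSet_iff.1 hx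
  obtain ⟨T, hT⟩ := Set.mem_iUnion.1 ha
  obtain ⟨g, rfl⟩ := isConj_iff.1 hax
  refine dser_le_classStab hQn hW (g • T) (hyp.kills (g • T)) ?_
  have h1 := mem_map_of_mem (MulAut.conj g).toMonoidHom (SetLike.mem_coe.1 hT)
  rw [map_dser] at h1
  rw [Sylow.coe_subgroup_smul]
  exact h1

variable [Group.IsSolvable H]

/-- **The last derived term is central in the part of `T` inside the closure.** -/
theorem Hyp.central (hyp : Hyp ρ k) (hρ : Function.Injective ρ) (hO : pCore 2 H = ⊥)
    (T : Sylow 2 H) {y c : H} (hy : y ∈ dser (T : Subgroup H) k) (hc : c ∈ (T : Subgroup H))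
    (hcK : c ∈ lastClosure k H) : Commute c y := by
  have hy' := conj_mem_dser_of_mem hc k hy
  have ha : ⁅c, y⁆ ∈ dser (T : Subgroup H) k := mul_mem hy' (inv_mem hy)
  rw [← commutatorElement_eq_one_iff_commute]
  by_contra hne
  obtain ⟨q, hq, Q, W, hW, hq2, hQq, hQn, hcls, hmove⟩ :=
    GrossTwo.exists_component (ρ := ρ) hρ hO (hyp.sq hρ T ha) hne
  have hfix := dser_le_classStab hQn hW T (hyp.kills T)
  obtain ⟨U, hU, hWU, hinv⟩ := exists_invariant_copy_group hW ((T : Subgroup H) ⊓ classStab ρ hW)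
    (T.2.to_le inf_le_left) inf_le_right
  set R := (T : Subgroup H) ⊓ classStab ρ hW with hR
  have hL : Invt ρ (Q ⊔ R) U := by
    have hle : Q ⊔ R ≤ submoduleStab ρ U :=
      sup_le (fun g hg => hU.2.1 g hg) fun g hg => hinv g hg
    exact fun g hg => hle hg
  have hmem : ∀ {x : H}, x ∈ dser (T : Subgroup H) k → x ∈ Q ⊔ R := fun hx =>
    mem_sup_right ⟨dser_le _ _ hx, hfix hx⟩
  have hIrr := irr_img hL hU le_sup_left hQn hQq hq2 hcls
  set π := (imgHom hL).rangeRestrict with hπ
  set cL : (Q ⊔ R : Subgroup H) :=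
    ⟨c, mem_sup_right ⟨hc, lastClosure_le_classStab hyp hQn hW hcK⟩⟩ with hcL
  set yL : (Q ⊔ R : Subgroup H) := ⟨y, hmem hy⟩ with hyL
  have hquad : (imgRep hL (π (cL * yL * cL⁻¹)) - 1) * (imgRep hL (π yL) - 1) = 0 := by
    refine LinearMap.ext fun u => Subtype.ext ?_
    have h := LinearMap.congr_fun (hyp.quad T _ hy' y hy) (u : V)
    simp only [Module.End.mul_apply, LinearMap.sub_apply, Module.End.one_apply,
      LinearMap.zero_apply] at h
    simp only [Module.End.mul_apply, LinearMap.sub_apply, Module.End.one_apply,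
      LinearMap.zero_apply, Submodule.coe_sub, hπ, imgRep_apply]
    exact h
  have htriv : π ⁅cL, yL⁆ = 1 := by
    rw [commutatorElement_def, map_mul, map_inv]
    by_cases hy1 : π yL = 1
    · rw [map_mul, map_mul, hy1, mul_one, map_inv, mul_inv_cancel, one_mul, inv_one]
    refine mul_inv_eq_one.2 (hIrr.eq_of_quad ?_ ?_ ?_ ?_ hy1 hquad)
    · rw [← map_pow, show (cL * yL * cL⁻¹) ^ 2 = 1 from Subtype.ext (hyp.sq hρ T hy'), map_one]
    · rw [← map_pow, show yL ^ 2 = 1 from Subtype.ext (hyp.sq hρ T hy), map_one]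
    · exact (show Commute (cL * yL * cL⁻¹) yL from
        Subtype.ext (hyp.commute T hy' hy).eq).map π
    · intro h
      apply hy1
      rwa [map_mul, map_mul, map_inv, conj_eq_one_iff] at h
  exact hmove (hfix ha) (classAction_eq_one_of_trivial hW hU hWU (hfix ha) fun u hu =>
    (rangeRestrict_eq_one_iff hL ⁅cL, yL⁆).1 htriv u hu)

/-- The closure lies in `O_{2',2}`. -/
theorem Hyp.lastClosure_le (hyp : Hyp ρ k) (hρ : Function.Injective ρ) (hO : pCore 2 H = ⊥) :
    lastClosure k H ≤ pPrimePCore 2 H := by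
  haveI : Fact (Nat.Prime 2) := ⟨Nat.prime_two⟩
  set K₀ := lastClosure k H with hK₀
  haveI := OddMax.Sec10.pPrimePCore_characteristic (p := 2) (H := K₀)
  haveI hN : ((pPrimePCore 2 K₀).map K₀.subtype).Normal :=
    ConjAct.normal_of_characteristic_of_normal
  haveI : (pPrimeCore 2 K₀).Characteristic := pPrimeCore_characteristic
  have hO' : (pPrimeCore 2 K₀).map K₀.subtype ≤ pPrimeCore 2 H := by
    haveI : ((pPrimeCore 2 K₀).map K₀.subtype).Normal :=
      ConjAct.normal_of_characteristic_of_normal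
    refine le_pPrimeCore ?_
    rw [card_map_of_injective K₀.subtype_injective]
    exact pPrimeCore_coprime
  refine le_trans ?_ (OddMax.Sec10.le_pPrimePCore_of_pow_mem (fun x hx => ?_) :
    (pPrimePCore 2 K₀).map K₀.subtype ≤ _)
  · refine normalClosure_le_normal fun y hy => ?_
    obtain ⟨T, hT⟩ := Set.mem_iUnion.1 hy
    refine ⟨⟨y, dser_le_lastClosure T k hT⟩, ?_, rfl⟩
    set π := QuotientGroup.mk' (pPrimeCore 2 K₀) with hπ
    have hC : IsPGroup 2 ((T : Subgroup H).subgroupOf K₀) :=
      T.2.comap_of_injective K₀.subtype K₀.subtype_injective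
    have hcen : π ⟨y, dser_le_lastClosure T k hT⟩ ∈
        centralizer (pCore 2 (K₀ ⧸ pPrimeCore 2 K₀) : Set (K₀ ⧸ pPrimeCore 2 K₀)) := by
      have hle : pCore 2 (K₀ ⧸ pPrimeCore 2 K₀) ≤ ((T : Subgroup H).subgroupOf K₀).map π := by
        obtain ⟨S, hS⟩ := hC.exists_le_sylow
        obtain ⟨T', hT'⟩ := (S.2.map K₀.subtype).exists_le_sylow
        obtain ⟨g, rfl⟩ := MulAction.exists_smul_eq H T T'
        have hcard : Nat.card S ≤ Nat.card ((T : Subgroup H).subgroupOf K₀) := by
          refine Nat.card_le_card_of_injective (fun x : S => (⟨(⟨g⁻¹ * ((x : K₀) : H) * g,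
            (normalClosure_normal).conj_mem' _ (x : K₀).2 g⟩ : K₀), ?_⟩ :
              (T : Subgroup H).subgroupOf K₀)) fun x x' h => ?_
          · have h1 := hT' (mem_map_of_mem K₀.subtype x.2)
            rw [Sylow.coe_subgroup_smul, Subgroup.pointwise_smul_def] at h1
            obtain ⟨z, hz, hzx⟩ := h1
            show g⁻¹ * ((x : K₀) : H) * g ∈ (T : Subgroup H)
            have hzx' : g * z * g⁻¹ = ((x : K₀) : H) := hzx
            rw [← hzx', show g⁻¹ * (g * z * g⁻¹) * g = z by group]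
            exact hz
          · refine Subtype.ext (Subtype.ext ?_)
            simpa using congrArg (fun z : (T : Subgroup H).subgroupOf K₀ => ((z : K₀) : H)) h
        have hSeq : (T : Subgroup H).subgroupOf K₀ = (S : Subgroup K₀) := eq_of_le_of_card_ge hS hcard
        rw [hSeq]
        have h3 := pCore_le_sylow (S.mapSurjective (QuotientGroup.mk'_surjective (pPrimeCore 2 K₀)))
        rwa [Sylow.coe_mapSurjective] at h3
      rw [mem_centralizer_iff]
      intro z hz
      obtain ⟨c, hc, rfl⟩ := hle hz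
      exact ((show Commute c (⟨y, _⟩ : K₀) from
        Subtype.ext (hyp.central hρ hO T hT hc c.2).eq).map π).eq
    have := centralizer_pCore_le_of_isPSolvable
      (isPSolvable_of_isSolvable (G := K₀ ⧸ pPrimeCore 2 K₀)) pPrimeCore_quotient_eq_bot hcen
    exact mem_pPrimePCore.2 this
  · obtain ⟨x, hx, rfl⟩ := hx
    obtain ⟨i, hi⟩ := OddMax.Sec10.exists_pow_mem_pPrimeCore hx
    exact ⟨i, hO' ⟨_, hi, map_pow K₀.subtype x _⟩⟩

theorem chainElt_shift {G : Type*} [Group G] (t : ℕ → G) (a : G) (j : ℕ) : ∀ i,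
    chainElt (fun l => t (j + 1 + l)) (chainElt t a j) i = chainElt t a (j + 1 + i)
  | 0 => rfl
  | i + 1 => by rw [chainElt, chainElt_shift t a j i, ← Nat.add_assoc, chainElt.eq_2]

/-- The closure meets `T` in an elementary abelian subgroup, covering its image modulo `O_{2'}`. -/
theorem Hyp.image_facts (hyp : Hyp ρ k) (hρ : Function.Injective ρ) (hO : pCore 2 H = ⊥) :
    (∀ a ∈ (lastClosure k H).map (QuotientGroup.mk' (pPrimeCore 2 H)),
      ∀ b ∈ (lastClosure k H).map (QuotientGroup.mk' (pPrimeCore 2 H)), a * b = b * a) ∧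
    (∀ a ∈ (lastClosure k H).map (QuotientGroup.mk' (pPrimeCore 2 H)), a ^ 2 = 1) ∧
    ∀ T : Sylow 2 H, ∀ z ∈ (lastClosure k H).map (QuotientGroup.mk' (pPrimeCore 2 H)),
      ∃ c ∈ (T : Subgroup H), c ∈ lastClosure k H ∧ QuotientGroup.mk' (pPrimeCore 2 H) c = z := by
  haveI : Fact (Nat.Prime 2) := ⟨Nat.prime_two⟩
  set π := QuotientGroup.mk' (pPrimeCore 2 H) with hπ
  have hπs : Function.Surjective π := QuotientGroup.mk'_surjective _
  set K₀ := lastClosure k H with hK₀
  set Z := K₀.map π with hZ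
  have hcov : ∀ T : Sylow 2 H, ∀ z ∈ Z, ∃ c ∈ (T : Subgroup H), c ∈ K₀ ∧ π c = z := by
    intro T z hz
    haveI : Z.Normal := Normal.map inferInstance π hπs
    have hZ2 : IsPGroup 2 Z := by
      rintro ⟨_, x, hx, rfl⟩
      obtain ⟨i, hi⟩ := OddMax.Sec10.exists_pow_mem_pPrimeCore (hyp.lastClosure_le hρ hO hx)
      exact ⟨i, Subtype.ext (by
        rw [SubmonoidClass.coe_pow, ← map_pow, OneMemClass.coe_one]
        exact (QuotientGroup.eq_one_iff _).2 hi)⟩
    have hle : Z ≤ (T : Subgroup H).map π := by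
      have h1 := (le_pCore hZ2).trans (pCore_le_sylow (T.mapSurjective hπs))
      rwa [Sylow.coe_mapSurjective] at h1
    obtain ⟨c, hc, rfl⟩ := hle hz
    obtain ⟨x, hx, hxc⟩ := hz
    refine ⟨c, hc, ?_, rfl⟩
    have hm : x⁻¹ * c ∈ pPrimeCore 2 H := by
      rw [← QuotientGroup.eq_one_iff]
      show π (x⁻¹ * c) = 1
      rw [map_mul, map_inv, hxc, inv_mul_cancel]
    -- a `2`-element of `K₀ O_{2'}` lies in `K₀`
    set ψ := QuotientGroup.mk' K₀ with hψ
    obtain ⟨i, hi⟩ := T.2 ⟨c, hc⟩
    have e1 : ψ c = ψ (x⁻¹ * c) := by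
      rw [map_mul, map_inv, show ψ x = 1 from (QuotientGroup.eq_one_iff x).2 hx, inv_one, one_mul]
    have h2 : ψ c = 1 := by
      rw [← orderOf_eq_one_iff]
      refine Nat.eq_one_of_dvd_coprimes (a := Nat.card (pPrimeCore 2 H)) (b := 2 ^ i)
        (pPrimeCore_coprime.pow_right i) ?_ ?_
      · rw [e1]; exact (orderOf_map_dvd ψ _).trans (Subgroup.orderOf_dvd_natCard _ hm)
      · exact orderOf_dvd_of_pow_eq_one (by
          rw [← map_pow, show c ^ 2 ^ i = 1 from (congrArg Subtype.val hi :), map_one])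
    exact (QuotientGroup.eq_one_iff c).1 h2
  have hgen : ∀ T : Sylow 2 H, ∀ y ∈ dser (T : Subgroup H) k,
      ∀ z ∈ Z, Commute z (π y) := by
    intro T y hy z hz
    obtain ⟨c, hc, hcK, rfl⟩ := hcov T z hz
    exact (hyp.central hρ hO T hy hc hcK).map π
  have hcomm : ∀ a ∈ Z, ∀ b ∈ Z, a * b = b * a := by
    haveI : Z.Normal := Normal.map inferInstance π hπs
    have h1 : K₀ ≤ (centralizer (Z : Set _)).comap π := by
      refine normalClosure_le_normal fun y hy => ?_
      obtain ⟨T, hT⟩ := Set.mem_iUnion.1 hy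
      exact mem_centralizer_iff.2 fun z hz => (hgen T y hT z hz).eq
    rintro a ha _ ⟨y, hy, rfl⟩
    exact mem_centralizer_iff.1 (h1 hy) a ha
  refine ⟨hcomm, ?_, hcov⟩
  haveI : Z.Normal := Normal.map inferInstance π hπs
  let Z₂ : Subgroup H :=
    { carrier := {x | π x ∈ Z ∧ π x ^ 2 = 1}
      one_mem' := ⟨by rw [map_one]; exact one_mem _, by rw [map_one, one_pow]⟩
      mul_mem' := fun {a b} ha hb => ⟨by rw [map_mul]; exact mul_mem ha.1 hb.1, by
        rw [map_mul, (show Commute (π a) (π b) from hcomm _ ha.1 _ hb.1).mul_pow, ha.2, hb.2, one_mul]⟩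
      inv_mem' := fun {a} ha => ⟨by rw [map_inv]; exact inv_mem ha.1, by
        rw [map_inv, inv_pow, ha.2, inv_one]⟩ }
  haveI : Z₂.Normal := ⟨fun x hx g => ⟨by
    rw [map_mul, map_mul, map_inv]; exact Normal.conj_mem inferInstance _ hx.1 _, by
    rw [map_mul, map_mul, map_inv, conj_pow, hx.2, mul_one, mul_inv_cancel]⟩⟩
  have h2 : K₀ ≤ Z₂ := normalClosure_le_normal fun y hy => by
    obtain ⟨T, hT⟩ := Set.mem_iUnion.1 hy
    exact ⟨mem_map_of_mem π (dser_le_lastClosure T k hT), by
      rw [← map_pow, hyp.sq hρ T hT, map_one]⟩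
  rintro _ ⟨x, hx, rfl⟩
  exact (h2 hx).2

/-- **The chains vanish in the closure.** -/
theorem Hyp.chain_mem {n : ℕ} (hyp : Hyp ρ (n + 1)) (hρ : Function.Injective ρ)
    (hO : pCore 2 H = ⊥) (T : Sylow 2 H) {t : ℕ → H}
    (ht : ∀ i ≤ n, t i ∈ dser (T : Subgroup H) i) {c : H} (hc : c ∈ (T : Subgroup H))
    (hcK : c ∈ lastClosure (n + 1) H) : chainElt t c n = 1 := by
  classical
  haveI : Fact (Nat.Prime 2) := ⟨Nat.prime_two⟩
  obtain ⟨hZc, hZ2, hZcov⟩ := hyp.image_facts hρ hO
  have hN : chainElt t c n ∈ dser (T : Subgroup H) (n + 1) := chainElt_mem hc n ht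
  by_contra hne
  obtain ⟨q, hq, Q, W, hW, hq2, hQq, hQn, hcls, hmove⟩ :=
    GrossTwo.exists_component (ρ := ρ) hρ hO (hyp.sq hρ T hN) hne
  have hfix := dser_le_classStab hQn hW T (hyp.kills T)
  -- the first derived term fixing the class
  obtain ⟨j, hj, hjmove⟩ : ∃ j, dser (T : Subgroup H) j ≤ classStab ρ hW ∧
      (j = 0 ∨ ¬ dser (T : Subgroup H) (j - 1) ≤ classStab ρ hW) := by
    have hex : ∃ j, dser (T : Subgroup H) j ≤ classStab ρ hW := ⟨n + 1, hfix⟩
    refine ⟨Nat.find hex, Nat.find_spec hex, or_iff_not_imp_left.2 fun h0 => Nat.find_min hex ?_⟩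
    omega
  by_cases hjn : n + 1 ≤ j
  · obtain rfl : j = n + 1 := by
      refine le_antisymm ?_ hjn
      rcases hjmove with h | h
      · omega
      · by_contra hlt
        exact h ((dser_le_of_le _ (by omega)).trans hfix)
    refine hmove (hfix hN) (classAction_eq_one_of_trivial hW hW (Linked.refl hW) (hfix hN)
      fun w hw => ?_)
    have h := chainOp_apply_eq_zero hQn hW (m := 0) rfl T (hyp.kills T) hj hjmove
      (r := fun _ => chainElt t c n) (fun i hi => by rw [Nat.le_zero.1 hi]; exact hN) hw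
    simp only [chainOp, LinearMap.sub_apply, Module.End.one_apply] at h
    exact sub_eq_zero.1 h
  push Not at hjn
  obtain ⟨m, rfl⟩ : ∃ m, n = j + m := ⟨n - j, by omega⟩
  set R := dser (T : Subgroup H) j with hR
  have hR2 : IsPGroup 2 R := T.2.to_le (dser_le _ _)
  obtain ⟨U, hU, hWU, hinv⟩ := exists_invariant_copy_group hW R hR2 hj
  have hSU := classStab_eq_of_linked hW hU hWU
  have hL : Invt ρ (Q ⊔ R) U := by
    have hle : Q ⊔ R ≤ submoduleStab ρ U :=
      sup_le (fun g hg => hU.2.1 g hg) fun g hg => hinv g hg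
    exact fun g hg => hle hg
  have hIrr := irr_img hL hU le_sup_left hQn hQq hq2 hcls
  set π := (imgHom hL).rangeRestrict with hπ
  haveI : Finite (imgHom hL).range := Finite.of_surjective _ (imgHom hL).rangeRestrict_surjective
  set RL := R.subgroupOf (Q ⊔ R) with hRL
  set E₀ := (R ⊓ lastClosure (j + m + 1) H).subgroupOf (Q ⊔ R) with hE₀
  have hRLmap : RL.map (Q ⊔ R).subtype = R := map_subgroupOf_eq_of_le le_sup_right
  have helem : ∀ a ∈ R ⊓ lastClosure (j + m + 1) H, ∀ b ∈ R ⊓ lastClosure (j + m + 1) H,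
      a * b = b * a ∧ a ^ 2 = 1 := by
    have hinj : ∀ x ∈ (T : Subgroup H), QuotientGroup.mk' (pPrimeCore 2 H) x = 1 → x = 1 := by
      intro x hx h1
      obtain ⟨i, hi⟩ := T.2 ⟨x, hx⟩
      rw [← orderOf_eq_one_iff]
      exact Nat.eq_one_of_dvd_coprimes ((pPrimeCore_coprime (p := 2) (G := H)).pow_right i)
        (Subgroup.orderOf_dvd_natCard _ ((QuotientGroup.eq_one_iff x).1 h1))
        (orderOf_dvd_of_pow_eq_one (congrArg Subtype.val hi :))
    intro a ha b hb
    have haT := dser_le _ _ ha.1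
    have hbT := dser_le _ _ hb.1
    have ma := mem_map_of_mem (QuotientGroup.mk' (pPrimeCore 2 H)) ha.2
    have mb := mem_map_of_mem (QuotientGroup.mk' (pPrimeCore 2 H)) hb.2
    refine ⟨mul_inv_eq_one.1 (hinj _ (mul_mem (mul_mem haT hbT) (inv_mem (mul_mem hbT haT))) ?_),
      hinj _ (pow_mem haT 2) (by rw [map_pow]; exact hZ2 _ ma)⟩
    rw [map_mul, map_inv, map_mul, map_mul, hZc _ ma _ mb, mul_inv_cancel]
  -- the inner element
  obtain ⟨c₁, hc₁, hNeq⟩ : ∃ c₁ ∈ R ⊓ lastClosure (j + m + 1) H,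
      chainElt t c (j + m) = chainElt (fun l => t (j + l)) c₁ m := by
    rcases j with _ | j
    · exact ⟨c, ⟨hc, hcK⟩, by simp⟩
    · refine ⟨chainElt t c j, ⟨chainElt_mem hc j fun i hi => ht i (by omega), ?_⟩,
        (chainElt_shift t c j m).symm⟩
      have : ∀ i, chainElt t c i ∈ lastClosure (j + 1 + m + 1) H := by
        intro i
        induction i with
        | zero => exact mul_mem (Normal.conj_mem (lastClosure_normal _ _) _ hcK _) (inv_mem hcK)
        | succ i ih => exact mul_mem (Normal.conj_mem (lastClosure_normal _ _) _ ih _) (inv_mem ih)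
      exact this j
  have htR : ∀ i ≤ m, t (j + i) ∈ dser R i := fun i hi => by
    rw [hR, dser_dser]; exact ht _ (by omega)
  let tL : ℕ → (Q ⊔ R : Subgroup H) := fun i =>
    if hi : i ≤ m then ⟨t (j + i), mem_sup_right (dser_le R i (htR i hi))⟩ else 1
  have htL : ∀ i ≤ m, (tL i : H) = t (j + i) := fun i hi => by simp [tL, dif_pos hi]
  set cL : (Q ⊔ R : Subgroup H) := ⟨c₁, mem_sup_right hc₁.1⟩ with hcL
  have hdser : ∀ i, dser (RL.map π) i = (dser RL i).map π := fun i => (map_dser π RL i).symm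
  have hmapR : ∀ i, (dser RL i).map (Q ⊔ R).subtype = dser R i := fun i =>
    (map_dser _ RL i).trans (congrArg (fun S => dser S i) hRLmap)
  have hlift : ∀ i, ∀ x : (Q ⊔ R : Subgroup H), (x : H) ∈ dser R i → x ∈ dser RL i := fun i x hx => by
    obtain ⟨y, hy, hyx⟩ := (hmapR i).ge hx
    exact (Subtype.ext hyx : y = x) ▸ hy
  have hkill : ∀ r : ℕ → (imgHom hL).range, (∀ i ≤ m + 1, r i ∈ dser (RL.map π) i) →
      chainOp (imgRep hL) r (m + 1) = 0 := by
    intro r hr
    simp only [hdser] at hr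
    choose s hs hsr using hr
    let s' : ℕ → (Q ⊔ R : Subgroup H) := fun i => if hi : i ≤ m + 1 then s i hi else 1
    rw [chainOp_congr (imgRep hL) (t' := fun i => π (s' i)) (m + 1) fun i hi => by
      simp only [s', dif_pos hi]; exact (hsr i hi).symm]
    refine LinearMap.ext fun u => Subtype.ext ?_
    rw [LinearMap.zero_apply, ZeroMemClass.coe_zero, hπ, imgRep_chainOp]
    refine chainOp_apply_eq_zero hQn hU (by omega : j + (m + 1) = j + m + 1) T (hyp.kills T)
      (hSU ▸ hj) (by rw [hSU]; exact hjmove) (fun i hi => ?_) u.2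
    simp only [s', dif_pos hi]
    have := mem_map_of_mem (Q ⊔ R).subtype (hs i hi)
    exact (dser_dser (T : Subgroup H) j i).le ((hmapR i).le this)
  have hkey := hIrr.chain_eq_one (R := RL.map π)
    ((hR2.comap_of_injective _ (Q ⊔ R).subtype_injective).map π) (E := E₀.map π)
    (map_mono fun x hx => hx.1) ?_ ?_ ?_ hkill (c := π cL) (mem_map_of_mem π (show cL ∈ E₀ from hc₁))
    (t := fun i => π (tL i)) (fun i hi => by
      rw [hdser]
      exact mem_map_of_mem π (hlift i _ (by rw [htL i (by omega)]; exact htR i (by omega))))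
  · rw [Nat.add_sub_cancel] at hkey
    have h1 := hkey.resolve_left (Nat.succ_ne_zero m)
    rw [← map_chainElt] at h1
    have h2 : ((chainElt tL cL m : ↥(Q ⊔ R)) : H) = chainElt t c (j + m) := by
      rw [hNeq]
      refine (map_chainElt (Q ⊔ R).subtype tL cL m).trans ?_
      have : ∀ i ≤ m, chainElt (fun l => (Q ⊔ R).subtype (tL l)) ((Q ⊔ R).subtype cL) i =
          chainElt (fun l => t (j + l)) c₁ i := by
        intro i hi
        induction i with
        | zero => simp [chainElt, htL 0 (Nat.zero_le m), hcL]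
        | succ i ih =>
          rw [chainElt, chainElt, ih (by omega)]
          simp [htL (i + 1) hi]
      exact this m le_rfl
    refine hmove (hfix hN) (classAction_eq_one_of_trivial hW hU hWU (hfix hN) fun u hu => ?_)
    rw [← h2]
    exact (rangeRestrict_eq_one_iff hL _).1 h1 u hu
  · rintro _ ⟨r, hr, rfl⟩ _ ⟨e, he, rfl⟩
    refine ⟨r * e * r⁻¹, ?_, by simp [map_mul]⟩
    show (r : H) * (e : H) * (r : H)⁻¹ ∈ R ⊓ lastClosure (j + m + 1) H
    exact mem_inf.2 ⟨R.mul_mem (R.mul_mem hr he.1) (R.inv_mem hr),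
      (lastClosure_normal (j + m + 1) H).conj_mem _ he.2 _⟩
  · rintro _ ⟨a, ha, rfl⟩ _ ⟨b, hb, rfl⟩
    exact (show Commute a b from Subtype.ext (helem _ ha _ hb).1).map π
  · rintro _ ⟨a, ha, rfl⟩
    rw [← map_pow, show a ^ 2 = 1 from Subtype.ext (helem _ ha _ ha).2, map_one]

/-- **The bound for modules.** -/
theorem pLengthLE_of_hyp {K : Type*} {V H : Type u} [Field K] [IsAlgClosed K] [CharP K 2]
    [AddCommGroup V] [Module K V] [FiniteDimensional K V] [Group H] [Finite H] [Group.IsSolvable H]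
    {ρ : H →* Module.End K V} {n : ℕ} (ih : LengthBound.{u} (n + 1)) (hρ : Function.Injective ρ)
    (hO : pCore 2 H = ⊥) (hyp : Hyp ρ (n + 1)) : PLengthLE 2 (n + 1) H := by
  haveI : Fact (Nat.Prime 2) := ⟨Nat.prime_two⟩
  obtain ⟨hc, h2, hcov⟩ := hyp.image_facts hρ hO
  set π := QuotientGroup.mk' (pPrimeCore 2 H) with hπ
  have hπs : Function.Surjective π := QuotientGroup.mk'_surjective _
  haveI : ((lastClosure (n + 1) H).map π).Normal := Normal.map inferInstance π hπs
  haveI : Group.IsSolvable (H ⧸ pPrimeCore 2 H) := Group.isSolvable_of_surjective hπs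
  refine ExpTwoLength71.pLengthLE_of_map_of_ker_le hπs (QuotientGroup.ker_mk' _).le ?_
  refine pLengthLE_of_layer ih pPrimeCore_quotient_eq_bot ((lastClosure (n + 1) H).map π) hc h2
    (fun T' => ?_) fun T' t ht z hz => ?_
  · obtain ⟨T, rfl⟩ := Sylow.mapSurjective_surjective hπs 2 T'
    rw [Sylow.coe_mapSurjective, ← map_dser]
    exact map_mono (dser_le_lastClosure T (n + 1))
  · obtain ⟨T, rfl⟩ := Sylow.mapSurjective_surjective hπs 2 T'
    simp only [Sylow.coe_mapSurjective, ← map_dser] at ht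
    choose s hs hst using ht
    let s' : ℕ → H := fun i => if hi : i ≤ n then s i hi else 1
    obtain ⟨c, hcT, hcK, rfl⟩ := hcov T z hz
    have h1 := hyp.chain_mem hρ hO T (t := s') (fun i hi => by
      simp only [s', dif_pos hi]; exact hs i hi) hcT hcK
    have hcongr : ∀ i ≤ n, chainElt (fun l => π (s' l)) (π c) i = chainElt t (π c) i := by
      intro i hi
      induction i with
      | zero => rw [chainElt, chainElt]; simp only [s', dif_pos hi, hst 0 hi]
      | succ i ih => rw [chainElt, chainElt, ih (by omega)]; simp only [s', dif_pos hi, hst _ hi]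
    rw [← hcongr n le_rfl, ← map_chainElt, h1, map_one]

theorem lengthBound : ∀ d, LengthBound.{u} d := by
  haveI : Fact (Nat.Prime 2) := ⟨Nat.prime_two⟩
  intro d
  induction d with
  | zero =>
    intro G _ _ _ h
    refine pLengthLE_zero_of_coprime ?_
    obtain ⟨P⟩ := (inferInstance : Nonempty (Sylow 2 G))
    have h1 := P.card_eq_multiplicity
    rw [show (P : Subgroup G) = ⊥ from h P, card_bot] at h1
    rw [Nat.coprime_comm, Nat.prime_two.coprime_iff_not_dvd]
    intro h2
    have := Nat.Prime.factorization_pos_of_dvd Nat.prime_two Nat.card_pos.ne' h2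
    have := Nat.one_lt_pow this.ne' (le_refl 2)
    omega
  | succ k ih =>
    refine pLengthLE_succ fun {K V H} _ _ _ _ _ _ _ _ _ ρ hρ hO hyp => ?_
    rcases k with _ | n
    · refine pLengthLE_zero_of_coprime ?_
      obtain ⟨T⟩ := (inferInstance : Nonempty (Sylow 2 H))
      have hT : (T : Subgroup H) = ⊥ := by
        rw [eq_bot_iff]
        intro x hx
        have h := hyp.kills T (fun _ => x) (fun i hi => by rw [Nat.le_zero.1 hi]; exact hx)
        refine mem_bot.2 (hρ ?_)
        rw [map_one]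
        exact sub_eq_zero.1 h
      have h1 := T.card_eq_multiplicity
      rw [hT, card_bot] at h1
      rw [Nat.coprime_comm, Nat.prime_two.coprime_iff_not_dvd]
      intro h2
      have := Nat.Prime.factorization_pos_of_dvd Nat.prime_two Nat.card_pos.ne' h2
      have := Nat.one_lt_pow this.ne' (le_refl 2)
      omega
    · exact pLengthLE_of_hyp ih hρ hO hyp

end Cfsg.Agent.Lib.DerivedTwoLength34
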