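import Cfsg.Agent.Lib.DerivedTwoLength34.Defs
import Cfsg.Agent.Lib.PGroup.Frattini

/-!
# Chains of a `p`-group on monomial functions

A group acts on `Ω` and linearly on `V`. If the `j`-th derived term of a `p`-subgroup `T` moves a
point, a chain of length `j` maps the function supported at that point to one which, on the orbit of
the next derived term, is supported at that point only.
-/

set_option autoImplicit false

namespace Cfsg.Agent.Lib.DerivedTwoLength34

open Subgroup
open scoped commutatorElement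

variable {G : Type*} [Group G]

theorem dser_dser (S : Subgroup G) (j : ℕ) : ∀ i, dser (dser S j) i = dser S (j + i)
  | 0 => rfl
  | i + 1 => by rw [dser, dser_dser S j i, ← Nat.add_assoc, dser]

/-- A `p`-group moving a point leaves the orbit of its derived subgroup. -/
theorem exists_smul_notMem_orbit [Finite G] {Ω : Type*} [MulAction G Ω] {p : ℕ} [Fact p.Prime]
    {R : Subgroup G} (hR : IsPGroup p R) {ω : Ω} (hmove : ∃ s ∈ R, s • ω ≠ ω) :
    ∃ s ∈ R, ∀ a ∈ ⁅R, R⁆, a • ω ≠ s • ω := by
  by_contra hall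
  push Not at hall
  obtain ⟨s, hs, hne⟩ := hmove
  let St : Subgroup R := (MulAction.stabilizer G ω).subgroupOf R
  have htop : St ⊔ frattini R = ⊤ := by
    rw [eq_top_iff]
    rintro ⟨x, hx⟩ -
    obtain ⟨a, ha, hax⟩ := hall x hx
    have haR : a ∈ R := commutator_le.2 (fun u hu v hv =>
      mul_mem (mul_mem (mul_mem hu hv) (inv_mem hu)) (inv_mem hv)) ha
    have e : (⟨x, hx⟩ : R) = ⟨a, haR⟩ * ⟨a⁻¹ * x, mul_mem (inv_mem haR) hx⟩ :=
      Subtype.ext (mul_inv_cancel_left a x).symm
    rw [e]
    refine mul_mem (mem_sup_right (PFrattini.commutator_le_frattini hR ?_)) (mem_sup_left ?_)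
    · have h1 : ⁅R, R⁆ = (_root_.commutator R).map R.subtype := (map_subtype_commutator R).symm
      rw [h1] at ha
      obtain ⟨a', ha', he⟩ := ha
      have : a' = ⟨a, haR⟩ := Subtype.ext he
      exact this ▸ ha'
    · show (a⁻¹ * x) • ω = ω
      rw [mul_smul, ← hax, inv_smul_smul]
  have h2 := frattini_nongenerating htop
  have h3 : (⟨s, hs⟩ : R) ∈ St := h2 ▸ mem_top _
  exact hne h3

variable {K V Ω : Type*} [CommRing K] [AddCommGroup V] [Module K V] [MulAction G Ω]

/-- The twisted action on functions. -/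
def twist (ρ : G →* Module.End K V) (t : G) (f : Ω → V) : Ω → V := fun x => ρ t (f (t⁻¹ • x))

/-- The chain on functions. -/
def chainFun (ρ : G →* Module.End K V) (t : ℕ → G) (f : Ω → V) : ℕ → Ω → V
  | 0 => twist ρ (t 0) f - f
  | i + 1 => twist ρ (t (i + 1)) (chainFun ρ t f i) - chainFun ρ t f i

theorem chainFun_congr (ρ : G →* Module.End K V) {t t' : ℕ → G} (f : Ω → V) :
    ∀ i, (∀ j ≤ i, t j = t' j) → chainFun ρ t f i = chainFun ρ t' f i
  | 0, h => by rw [chainFun, chainFun, h 0 le_rfl]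
  | i + 1, h => by
    rw [chainFun, chainFun, h (i + 1) le_rfl, chainFun_congr ρ f i fun j hj => h j (by omega)]

theorem chainOp_congr (ρ : G →* Module.End K V) {t t' : ℕ → G} :
    ∀ i, (∀ j ≤ i, t j = t' j) → chainOp ρ t i = chainOp ρ t' i
  | 0, h => by rw [chainOp, chainOp, h 0 le_rfl]
  | i + 1, h => by
    rw [chainOp, chainOp, h (i + 1) le_rfl, chainOp_congr ρ i fun j hj => h j (by omega)]

theorem sum_twist [Fintype Ω] (ρ : G →* Module.End K V) (t : G) (f : Ω → V) :
    ∑ x, twist ρ t f x = ρ t (∑ x, f x) := by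
  rw [map_sum]
  exact Fintype.sum_equiv (MulAction.toPerm t⁻¹) _ _ fun x => rfl

theorem sum_chainFun [Fintype Ω] (ρ : G →* Module.End K V) (t : ℕ → G) (f : Ω → V) :
    ∀ i, ∑ x, chainFun ρ t f i x = chainOp ρ t i (∑ x, f x)
  | 0 => by
    simp only [chainFun, Pi.sub_apply, Finset.sum_sub_distrib, sum_twist, chainOp,
      LinearMap.sub_apply, Module.End.one_apply]
  | i + 1 => by
    simp only [chainFun, Pi.sub_apply, Finset.sum_sub_distrib, sum_twist, sum_chainFun ρ t f i,
      chainOp, Module.End.mul_apply, LinearMap.sub_apply, Module.End.one_apply]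

/-- An equivariant family of subspaces is preserved. -/
theorem chainFun_mem (ρ : G →* Module.End K V) (B : Ω → Submodule K V) (t : ℕ → G) :
    ∀ i, (∀ j ≤ i, ∀ x, ∀ v ∈ B x, ρ (t j) v ∈ B (t j • x)) → ∀ {f : Ω → V}, (∀ x, f x ∈ B x) →
      ∀ x, chainFun ρ t f i x ∈ B x
  | 0, h, f, hf, x => by
    have := h 0 le_rfl ((t 0)⁻¹ • x) _ (hf _)
    rw [smul_inv_smul] at this
    exact sub_mem this (hf x)
  | i + 1, h, f, hf, x => by
    have hi := chainFun_mem ρ B t i (fun j hj => h j (by omega)) hf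
    have := h (i + 1) le_rfl ((t (i + 1))⁻¹ • x) _ (hi _)
    rw [smul_inv_smul] at this
    exact sub_mem this (hi x)

/-- On a fixed point the chain is the chain of operators. -/
theorem chainFun_apply_fixed (ρ : G →* Module.End K V) (t : ℕ → G) (f : Ω → V) {ω : Ω} :
    ∀ i, (∀ j ≤ i, t j • ω = ω) → chainFun ρ t f i ω = chainOp ρ t i (f ω)
  | 0, h => by
    have e : (t 0)⁻¹ • ω = ω := inv_smul_eq_iff.2 (h 0 le_rfl).symm
    simp only [chainFun, twist, Pi.sub_apply, e, chainOp, LinearMap.sub_apply, Module.End.one_apply]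
  | i + 1, h => by
    have e : (t (i + 1))⁻¹ • ω = ω := inv_smul_eq_iff.2 (h (i + 1) le_rfl).symm
    simp only [chainFun, twist, Pi.sub_apply, e, chainFun_apply_fixed ρ t f i fun j hj => h j (by omega),
      chainOp, Module.End.mul_apply, LinearMap.sub_apply, Module.End.one_apply]

theorem chainFun_add (ρ : G →* Module.End K V) (t r : ℕ → G) (f : Ω → V) (j : ℕ) :
    ∀ i, chainFun ρ (fun l => if l ≤ j then t l else r (l - (j + 1))) f (j + 1 + i) =
      chainFun ρ r (chainFun ρ t f j) i := by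
  have h0 : chainFun ρ (fun l => if l ≤ j then t l else r (l - (j + 1))) f j = chainFun ρ t f j :=
    chainFun_congr ρ f j fun l hl => if_pos hl
  intro i
  induction i with
  | zero => rw [Nat.add_zero, chainFun.eq_2, h0, if_neg (by omega), Nat.sub_self, chainFun.eq_1]
  | succ i ih =>
    rw [← Nat.add_assoc, chainFun.eq_2, ih, if_neg (by omega), chainFun.eq_2,
      show j + 1 + i + 1 - (j + 1) = i + 1 by omega]

variable [DecidableEq Ω]

/-- **The monomial lemma.** -/
theorem exists_chain_single [Finite G] {p : ℕ} [Fact p.Prime] (ρ : G →* Module.End K V)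
    {T : Subgroup G} (hT : IsPGroup p T) (ω : Ω) (v : V) :
    ∀ j, (∃ s ∈ dser T j, s • ω ≠ ω) → ∃ t : ℕ → G, (∀ i ≤ j, t i ∈ dser T i) ∧
      (chainFun ρ t (Pi.single ω v) j ω = v ∨ chainFun ρ t (Pi.single ω v) j ω = -v) ∧
      ∀ a ∈ dser T (j + 1), a • ω ≠ ω → chainFun ρ t (Pi.single ω v) j (a • ω) = 0 := by
  intro j
  induction j with
  | zero =>
    intro hmove
    obtain ⟨s, hs, hne⟩ := exists_smul_notMem_orbit hT hmove
    have hne1 : s⁻¹ • ω ≠ ω := fun e => hne 1 (one_mem _) (by
      rw [one_smul]; exact inv_smul_eq_iff.1 e)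
    refine ⟨fun _ => s, fun i hi => ?_, Or.inr ?_, fun a ha haω => ?_⟩
    · rw [Nat.le_zero.1 hi]; exact hs
    · simp [chainFun, twist, Pi.single_eq_of_ne hne1]
    · have h1 : s⁻¹ • a • ω ≠ ω := fun e => hne a ha (inv_smul_eq_iff.1 e)
      simp [chainFun, twist, Pi.single_eq_of_ne h1, Pi.single_eq_of_ne haω]
  | succ j ih =>
    intro hmove
    obtain ⟨t, ht, hω, horb⟩ := ih (by
      obtain ⟨s, hs, h⟩ := hmove
      exact ⟨s, dser_antitone T j hs, h⟩)
    obtain ⟨s, hs, hne⟩ := exists_smul_notMem_orbit (hT.to_le (dser_le T (j + 1))) hmove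
    set t' : ℕ → G := fun i => if i ≤ j then t i else s with ht'
    have h0 : chainFun ρ t' (Pi.single ω v) j = chainFun ρ t (Pi.single ω v) j :=
      chainFun_congr ρ _ j fun l hl => if_pos hl
    have e : t' (j + 1) = s := if_neg (by omega)
    have key : ∀ a ∈ dser T (j + 2), chainFun ρ t' (Pi.single ω v) (j + 1) (a • ω) =
        -chainFun ρ t (Pi.single ω v) j (a • ω) := by
      intro a ha
      rw [chainFun, h0, e, Pi.sub_apply, twist, smul_smul,
        horb (s⁻¹ * a) (mul_mem (inv_mem hs) (dser_antitone T (j + 1) ha))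
          (fun h => hne a ha (inv_smul_eq_iff.1 (by rwa [mul_smul] at h))),
        map_zero, zero_sub]
    refine ⟨t', fun i hi => ?_, ?_, fun a ha haω => ?_⟩
    · by_cases hij : i ≤ j
      · rw [ht']; simp only [hij, if_true]; exact ht i hij
      · rw [show i = j + 1 by omega, e]; exact hs
    · have h := key 1 (one_mem _)
      rw [one_smul] at h
      rw [h]
      rcases hω with hω | hω <;> rw [hω]
      · exact Or.inr rfl
      · exact Or.inl (neg_neg v)
    · rw [key a ha, horb a (dser_antitone T (j + 1) ha) haω, neg_zero]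

end Cfsg.Agent.Lib.DerivedTwoLength34
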